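import Cfsg.Agent.Lib.J3Uniq.Check

/-!
A certificate for the case of orders `3`, `7` and exponent `0`.
-/

set_option autoImplicit false
set_option maxRecDepth 20000
set_option Elab.async false

namespace Cfsg.Agent.J3Uniq.C370

/-- facts -/
def f0 : List Fact :=
  [⟨false, 120, 0, 0, 0, 120⟩,
    ⟨false, 1740, 0, 0, 0, 1740⟩,
    ⟨false, 56, 0, 0, 0, 56⟩,
    ⟨false, 59, 0, 0, 0, 59⟩,
    ⟨false, 23, 0, 0, 0, 23⟩,
    ⟨true, 0, 0, 0, 1, 0⟩,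
    ⟨false, 49, 1, 0, 1, 23⟩,
    ⟨false, 1740, 1, 0, 1, 120⟩,
    ⟨false, 5, 1, 0, 1, 5⟩,
    ⟨false, 1727, 1, 0, 1, 923⟩,
    ⟨true, 0, 1, 1320, 1, 1320⟩,
    ⟨true, 1, 1, 0, 2, 0⟩,
    ⟨false, 662, 2, 0, 2, 938⟩,
    ⟨false, 32, 2, 0, 2, 42⟩,
    ⟨true, 1, 2, 0, 3, 0⟩,
    ⟨false, 1062, 3, 0, 3, 65⟩,
    ⟨true, 7, 3, 0, 4, 0⟩,
    ⟨true, 791, 4, 0, 5, 0⟩,
    ⟨true, 3, 5, 0, 6, 0⟩,
    ⟨true, 787, 6, 0, 7, 0⟩,
    ⟨true, 1, 7, 0, 8, 0⟩,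
    ⟨true, 787, 8, 0, 9, 0⟩,
    ⟨true, 1, 9, 0, 10, 0⟩,
    ⟨false, 1298, 10, 1499, 4, 296⟩,
    ⟨true, 0, 2, 1403, 2, 120⟩,
    ⟨true, 318, 3, 1278, 3, 1320⟩,
    ⟨true, 0, 3, 1600, 3, 722⟩,
    ⟨false, 268, 6, 1598, 3, 120⟩,
    ⟨false, 1865, 3, 0, 7, 1445⟩,
    ⟨false, 1318, 3, 0, 8, 1385⟩,
    ⟨true, 1609, 3, 0, 9, 1385⟩,
    ⟨false, 1058, 9, 13, 2, 1830⟩]

/-- facts -/
def f1 : List Fact :=
  [⟨false, 1380, 2, 929, 4, 1466⟩,
    ⟨false, 1360, 2, 0, 5, 1706⟩,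
    ⟨false, 762, 3, 1918, 3, 1919⟩,
    ⟨true, 181, 3, 0, 11, 0⟩,
    ⟨false, 6, 11, 782, 11, 34⟩,
    ⟨false, 0, 11, 0, 11, 34⟩]

/-- the certificate -/
def P : Cert where
  nodes := [(0, 0), (1, 1), (2, 1), (3, 7), (4, 791), (5, 3), (6, 787), (7, 1), (8, 787), (9, 1), (3, 181)]
  rels := [[1920, 1920, 1920], [1320, 1920, 1320, 1920], [1920, 2, 1320, 1920, 1320, 5], [1920, 56, 1920, 56, 1920, 56, 1920, 56, 1920, 56, 1920, 56], [1320, 1920, 1320, 56, 1920, 56, 1320, 1920, 1320, 56, 1920, 56, 1320, 1920, 1320, 56, 1920, 56, 1320, 1920, 1320, 56, 1920, 56, 1320, 1920, 1320, 56, 1920, 56, 1320, 1920, 1320, 56, 1920, 56, 1320, 1920, 1320, 56, 1920, 56]]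
  facts := [f0, f1]

/-- justifications -/
def w0 : List Why :=
  [.one,
    .one,
    .one,
    .one,
    .one,
    .node,
    .eq false none 23 0 [.R 5 23 3] [.F 4 0, .R 5 0 0],
    .eq false none 120 0 [.R 5 120 24] [.F 0 0, .R 5 0 0],
    .eq false none 5 0 [.R 5 5 2] [.F 2 59, .F 3 0, .R 5 0 0],
    .eq false none 923 0 [.R 5 923 111] [.F 3 927, .F 1 1347, .F 3 1343, .F 4 1320, .F 3 1379, .F 1 59, .F 3 0, .R 5 0 0],
    .eq true (some (0, 2)) 0 0 [.R 5 0 0] [.C 1320, .F 3 1379, .F 1 59, .F 3 0, .R 5 0 0, .C 1320],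
    .node,
    .eq false none 1483 1 [.R 11 1490 155] [.F 8 1491, .F 9 1, .R 11 0 0],
    .eq false none 43 1 [.R 11 50 11] [.F 6 7, .F 8 1, .R 11 0 0],
    .node,
    .eq false none 1726 2 [.R 14 1720 175] [.F 13 1699, .F 12 34, .F 13 36, .F 13 1, .R 14 0 0],
    .node,
    .node,
    .node,
    .node,
    .node,
    .node,
    .node,
    .eq false (some (4, 29)) 0 0 [.C 56, .F 3 2, .R 5 2 1, .C 56, .C 1320, .F 9 378, .F 8 386, .R 11 392 53, .C 1320, .C 56, .F 13 988, .F 12 1160, .F 12 1055, .R 14 1062 128, .C 56, .C 1320, .R 16 443 63, .C 1320, .C 56, .R 17 1710 172, .C 56, .C 1320, .R 18 383 51, .C 1320, .C 56, .R 19 942 116, .C 56, .C 1320, .R 20 92 17, .C 1320, .C 56, .R 21 1052 125, .C 56, .C 1320, .R 22 462 68] [.C 1320, .C 1320, .R 5 0 0, .C 1320, .C 1320, .C 56, .C 1320, .F 9 88, .F 8 95, .R 11 102 20, .C 1320, .C 56, .C 1320, .C 1320, .F 13 1578, .F 12 1152,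 .F 12 1706, .R 14 1712 173, .C 1320, .C 1320, .C 56, .C 1320, .R 16 392 53, .C 1320, .C 56, .C 1320],
    .eq true (some (0, 2)) 1 1 [.R 11 0 0] [.C 1320, .F 7 901, .R 11 900 108, .C 1320],
    .eq true (some (3, 8)) 6 1 [.C 56, .R 10 30 4, .C 56, .F 7 1278, .F 8 1286, .R 11 1292 137, .C 56, .F 13 88, .F 13 86, .R 14 92 17, .C 56] [.C 1320, .F 7 6, .F 9 395, .R 11 402 56, .C 1320, .C 56, .C 1320, .R 14 1472 149, .C 1320, .C 56],
    .eq true (some (0, 2)) 1 2 [.R 14 0 0] [.C 1320, .F 12 427, .F 13 466, .R 14 460 67, .C 1320],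
    .eq false (some (3, 9)) 300 2 [.C 56, .F 13 730, .F 13 755, .R 14 762 104, .C 56, .R 16 443 63, .C 56, .R 17 270 40, .C 56, .R 18 623 75, .C 56] [.C 1320, .R 24 600 72, .C 1320, .C 56, .C 1320, .F 13 430, .F 13 455, .R 14 462 68, .C 1320],
    .eq false none 787 6 [.F 27 210, .R 26 1549 166] [.R 19 0 0],
    .eq false none 1 7 [.B 28 1, .R 25 938 114] [.R 20 0 0],
    .eq true none 787 8 [.B 29 787] [.R 21 0 0],
    .eq false (some (0, 3)) 13 2 [.F 13 55, .R 14 49 10, .R 26 47 9, .R 30 1718 174] [],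
    .eq false none 1 9 [.F 31 756, .R 24 769 106] [.R 22 0 0, .F 23 1472],
    .eq false none 791 4 [.B 32 1900, .R 24 40 7] [.R 17 0 0],
    .eq false none 3 5 [.B 33 3, .F 12 1125, .F 12 106, .R 14 100 19] [.R 18 0 0, .F 27 89],
    .node,
    .eq false (some (3, 9)) 3 2 [.C 56, .R 14 30 4, .C 56, .R 16 32 5, .B 32 367, .C 56, .F 12 97, .R 14 90 16, .C 56, .F 15 206, .R 35 32 5, .C 56] [.C 1320, .F 12 1741, .R 14 1740 180, .C 1320, .C 56, .C 1320, .F 34 1626, .F 15 304, .R 35 122 25, .C 1320],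
    .eq false none 0 11 [.F 36 11, .F 36 225, .F 36 538, .F 36 875, .F 36 1145] []]

theorem ok0 : checkFrom P 0 w0 = true := by decide +kernel

variable {G : Type*} [Group G] {e : ℕ → G} {r : G}

theorem holds (hR : Rules e r) (hrels : ∀ w, w < P.rels.length → readW e r (P.rels.getD w []).reverse = 1) :
    ∀ m, m < 38 → (P.fact m).Holds P e r := by
  have h : ∀ m, m < 0 → (P.fact m).Holds P e r := fun m hm => absurd hm (Nat.not_lt_zero m)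
  have h := checkFrom_sound P hR hrels w0 0 ok0 h
  exact fun m hm => h m hm

end Cfsg.Agent.J3Uniq.C370
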