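import Cfsg.Agent.Lib.J3Uniq.Check

/-!
A certificate for the case of orders `3`, `7` and exponent `1`.
-/

set_option autoImplicit false
set_option maxRecDepth 20000
set_option Elab.async false

namespace Cfsg.Agent.J3Uniq.C371

/-- facts -/
def f0 : List Fact :=
  [⟨false, 120, 0, 0, 0, 120⟩,
    ⟨false, 1740, 0, 0, 0, 1740⟩,
    ⟨false, 56, 0, 0, 0, 56⟩,
    ⟨false, 59, 0, 0, 0, 59⟩,
    ⟨false, 23, 0, 0, 0, 23⟩,
    ⟨true, 0, 0, 0, 1, 0⟩,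
    ⟨false, 49, 1, 0, 1, 23⟩,
    ⟨false, 1740, 1, 0, 1, 120⟩,
    ⟨false, 5, 1, 0, 1, 5⟩,
    ⟨false, 1727, 1, 0, 1, 923⟩,
    ⟨true, 0, 1, 1320, 1, 1320⟩,
    ⟨true, 1, 1, 0, 2, 0⟩,
    ⟨false, 662, 2, 0, 2, 938⟩,
    ⟨false, 32, 2, 0, 2, 42⟩,
    ⟨true, 1, 2, 0, 3, 0⟩,
    ⟨true, 7, 3, 0, 4, 0⟩,
    ⟨true, 11, 4, 0, 5, 0⟩,
    ⟨false, 65, 5, 1796, 1, 236⟩,
    ⟨true, 318, 3, 1278, 3, 1320⟩,
    ⟨true, 0, 3, 1600, 3, 722⟩,
    ⟨false, 1189, 2, 1883, 2, 398⟩,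
    ⟨false, 0, 2, 0, 2, 662⟩]

/-- the certificate -/
def P : Cert where
  nodes := [(0, 0), (1, 1), (2, 1), (3, 7), (4, 11)]
  rels := [[1920, 1920, 1920], [1320, 1920, 1320, 1920], [1920, 2, 1320, 1920, 1320, 5], [1920, 56, 1920, 56, 1920, 56, 1920, 56, 1920, 56, 1920, 56], [1320, 1920, 1320, 56, 1920, 56, 1320, 1920, 1320, 56, 1920, 56, 1320, 1920, 1320, 56, 1920, 56, 1320, 1920, 1320, 56, 1920, 56, 1320, 1920, 1320, 56, 1920, 56, 1320, 1920, 1320, 56, 1920, 56, 1320, 1920, 1320, 56, 1920, 56, 2]]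
  facts := [f0]

/-- justifications -/
def w0 : List Why :=
  [.one,
    .one,
    .one,
    .one,
    .one,
    .node,
    .eq false none 23 0 [.R 5 23 3] [.F 4 0, .R 5 0 0],
    .eq false none 120 0 [.R 5 120 24] [.F 0 0, .R 5 0 0],
    .eq false none 5 0 [.R 5 5 2] [.F 2 59, .F 3 0, .R 5 0 0],
    .eq false none 923 0 [.R 5 923 111] [.F 3 927, .F 1 1347, .F 3 1343, .F 4 1320, .F 3 1379, .F 1 59, .F 3 0, .R 5 0 0],
    .eq true (some (0, 2)) 0 0 [.R 5 0 0] [.C 1320, .F 3 1379, .F 1 59, .F 3 0, .R 5 0 0, .C 1320],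
    .node,
    .eq false none 1483 1 [.R 11 1490 155] [.F 8 1491, .F 9 1, .R 11 0 0],
    .eq false none 43 1 [.R 11 50 11] [.F 6 7, .F 8 1, .R 11 0 0],
    .node,
    .node,
    .node,
    .eq false (some (3, 10)) 0 0 [.C 56, .F 3 2, .R 5 2 1, .C 56, .F 6 6, .F 9 395, .R 11 402 56, .C 56, .F 12 618, .F 13 616, .R 14 623 75, .C 56, .R 15 282 44, .C 56, .R 16 640 79] [.C 1320, .F 3 1379, .F 1 59, .F 3 0, .R 5 0 0, .C 1320, .C 56],
    .eq true (some (3, 8)) 6 1 [.C 56, .R 10 30 4, .C 56, .F 7 1278, .F 8 1286, .R 11 1292 137, .C 56, .F 13 88, .F 13 86, .R 14 92 17, .C 56] [.C 1320, .F 7 6, .F 9 395, .R 11 402 56, .C 1320, .C 56, .C 1320, .R 14 1472 149, .C 1320, .C 56],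
    .eq true (some (0, 2)) 1 2 [.R 14 0 0] [.C 1320, .F 12 427, .F 13 466, .R 14 460 67, .C 1320],
    .eq false (some (4, 2)) 786 2 [.C 2, .C 56] [.C 1320, .C 1320, .F 12 1276, .R 14 1283 135, .C 1320, .C 1320, .C 56, .C 1320, .R 18 122 25, .C 1320, .C 56, .C 1320, .C 1320, .R 19 1727 177, .C 1320, .C 1320, .C 56, .C 1320, .R 18 1745 182, .C 1320, .C 56, .C 1320, .C 1320, .R 19 1298 138, .C 1320, .C 1320, .C 56, .C 1320, .R 15 1292 137, .C 1320, .C 56, .C 1320, .C 1320, .R 16 1489 154, .F 17 122, .C 1320, .C 1320, .C 56, .C 1320, .R 10 125 26, .C 1320, .C 56, .C 1320, .C 1320, .F 9 670, .F 8 676, .R 11 683 87, .C 1320, .C 1320, .C 56, .C 1320, .F 13 550, .F 12 1326, .F 12 616, .R 14 623 75, .C 1320, .C 56, .C 1320, .C 1320, .R 15 1722 176, .C 1320, .C 1320, .C 56, .C 1320, .R 16 400 55, .F 17 1740, .C 1320, .C 56, .C 1320, .C 1320, .R 10 1740 180, .C 1320, .C 1320, .C 56, .C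 1320, .F 6 1512, .F 9 1696, .R 11 1703 171, .C 1320],
    .eq false none 1067 2 [.F 20 1403] [.F 12 940, .F 12 32, .F 13 0]]

theorem ok0 : checkFrom P 0 w0 = true := by decide +kernel

variable {G : Type*} [Group G] {e : ℕ → G} {r : G}

theorem holds (hR : Rules e r) (hrels : ∀ w, w < P.rels.length → readW e r (P.rels.getD w []).reverse = 1) :
    ∀ m, m < 22 → (P.fact m).Holds P e r := by
  have h : ∀ m, m < 0 → (P.fact m).Holds P e r := fun m hm => absurd hm (Nat.not_lt_zero m)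
  have h := checkFrom_sound P hR hrels w0 0 ok0 h
  exact fun m hm => h m hm

end Cfsg.Agent.J3Uniq.C371
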