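import Cfsg.Agent.Lib.J3Uniq.Check

/-!
A certificate for the case of orders `4`, `5` and exponent `2`.
-/

set_option autoImplicit false
set_option maxRecDepth 20000
set_option Elab.async false

namespace Cfsg.Agent.J3Uniq.C452

/-- facts -/
def f0 : List Fact :=
  [⟨false, 120, 0, 0, 0, 120⟩,
    ⟨false, 1740, 0, 0, 0, 1740⟩,
    ⟨false, 56, 0, 0, 0, 56⟩,
    ⟨false, 59, 0, 0, 0, 59⟩,
    ⟨false, 23, 0, 0, 0, 23⟩,
    ⟨true, 0, 0, 0, 1, 0⟩,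
    ⟨false, 49, 1, 0, 1, 23⟩,
    ⟨false, 1740, 1, 0, 1, 120⟩,
    ⟨false, 5, 1, 0, 1, 5⟩,
    ⟨false, 1727, 1, 0, 1, 923⟩,
    ⟨true, 180, 1, 0, 2, 0⟩,
    ⟨false, 409, 2, 1320, 0, 0⟩,
    ⟨true, 1, 1, 0, 3, 0⟩,
    ⟨false, 662, 3, 0, 3, 938⟩,
    ⟨false, 32, 3, 0, 3, 42⟩,
    ⟨true, 1, 3, 0, 4, 0⟩,
    ⟨true, 7, 4, 0, 5, 0⟩,
    ⟨true, 11, 5, 0, 6, 0⟩,
    ⟨true, 11, 6, 0, 7, 0⟩,
    ⟨true, 1, 7, 0, 8, 0⟩,
    ⟨false, 62, 8, 1796, 1, 236⟩,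
    ⟨true, 791, 5, 0, 9, 0⟩,
    ⟨true, 3, 9, 0, 10, 0⟩,
    ⟨false, 1298, 10, 1499, 5, 296⟩,
    ⟨true, 0, 3, 1403, 3, 120⟩,
    ⟨false, 600, 5, 1890, 9, 116⟩,
    ⟨false, 1607, 5, 929, 5, 296⟩,
    ⟨true, 1422, 5, 0, 6, 296⟩,
    ⟨true, 102, 5, 1002, 5, 120⟩,
    ⟨false, 1002, 3, 480, 3, 349⟩,
    ⟨false, 0, 3, 0, 3, 1832⟩]

/-- the certificate -/
def P : Cert where
  nodes := [(0, 0), (1, 180), (1, 1), (3, 1), (4, 7), (5, 11), (6, 11), (7, 1), (5, 791), (9, 3)]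
  rels := [[1920, 1920, 1920], [1320, 1920, 1320, 1920], [1920, 2, 1320, 1920, 1320, 5], [1920, 56, 1920, 56, 1920, 56, 1920, 56, 1920, 56, 1920, 56, 1920, 56, 1920, 56], [1320, 1920, 1320, 56, 1920, 56, 1320, 1920, 1320, 56, 1920, 56, 1320, 1920, 1320, 56, 1920, 56, 1320, 1920, 1320, 56, 1920, 56, 1320, 1920, 1320, 56, 1920, 56, 5]]
  facts := [f0]

/-- justifications -/
def w0 : List Why :=
  [.one,
    .one,
    .one,
    .one,
    .one,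
    .node,
    .eq false none 23 0 [.R 5 23 3] [.F 4 0, .R 5 0 0],
    .eq false none 120 0 [.R 5 120 24] [.F 0 0, .R 5 0 0],
    .eq false none 5 0 [.R 5 5 2] [.F 2 59, .F 3 0, .R 5 0 0],
    .eq false none 923 0 [.R 5 923 111] [.F 3 927, .F 1 1347, .F 3 1343, .F 4 1320, .F 3 1379, .F 1 59, .F 3 0, .R 5 0 0],
    .node,
    .eq false (some (1, 3)) 0 0 [.R 5 0 0, .C 1320, .R 10 660 84] [.C 1320],
    .node,
    .eq false none 1483 1 [.R 12 1490 155] [.F 8 1491, .F 9 1, .R 12 0 0],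
    .eq false none 43 1 [.R 12 50 11] [.F 6 7, .F 8 1, .R 12 0 0],
    .node,
    .node,
    .node,
    .node,
    .node,
    .eq false (some (3, 14)) 0 0 [.C 56, .F 3 2, .R 5 2 1, .C 56, .F 6 6, .F 9 395, .R 12 402 56, .C 56, .F 13 618, .F 14 616, .R 15 623 75, .C 56, .R 16 282 44, .C 56, .R 17 640 79, .C 56, .R 18 280 43, .C 56, .R 19 632 77] [.C 1320, .F 3 1379, .F 1 59, .F 3 0, .R 5 0 0, .C 1320, .C 56],
    .node,
    .node,
    .eq false (some (4, 18)) 0 0 [.C 5, .C 56, .F 3 5, .R 5 5 2, .C 56, .C 1320, .F 9 430, .F 8 436, .R 12 443 63, .C 1320, .C 56, .F 14 1630, .F 13 1146, .F 13 916, .R 15 923 111, .C 56, .C 1320, .R 16 102 20, .C 1320, .C 56, .R 21 1060 127, .C 56, .C 1320, .R 22 462 68] [.C 1320, .C 1320, .R 5 0 0, .C 1320, .C 1320, .C 56, .C 1320, .F 9 88, .F 8 95, .R 12 102 20, .C 1320, .C 56, .C 1320, .C 1320, .F 14 1578, .F 13 1152, .F 13 1706, .R 15 1712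 173, .C 1320, .C 1320, .C 56, .C 1320, .R 16 392 53, .C 1320, .C 56, .C 1320],
    .eq true (some (0, 2)) 1 1 [.R 12 0 0] [.C 1320, .F 7 901, .R 12 900 108, .C 1320],
    .eq false (some (3, 9)) 300 3 [.C 56, .F 14 730, .F 14 755, .R 15 762 104, .C 56, .R 16 443 63, .C 56, .R 21 270 40, .C 56, .R 22 623 75, .F 23 1742, .C 56] [.C 1320, .R 24 600 72, .C 1320, .C 56, .C 1320, .F 14 430, .F 14 455, .R 15 462 68, .C 1320, .C 56, .C 1320, .R 16 743 99, .C 1320, .C 56, .C 1320, .R 21 1710 172, .C 1320],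
    .eq false none 3 9 [.B 25 1339, .R 21 422 61, .B 25 1127] [.R 22 0 0, .F 23 1472],
    .eq true none 11 5 [.F 26 1132] [.R 17 0 0],
    .eq true none 791 5 [.F 26 1792] [.R 21 0 0, .B 25 1842],
    .eq false (some (4, 31)) 480 3 [.C 5, .C 56, .F 14 918, .F 14 916, .R 15 923 111, .C 56, .C 1320, .R 16 102 20, .C 1320, .C 56, .F 26 670, .R 28 1060 127, .C 56, .C 1320, .F 26 618, .R 28 949 118, .C 1320, .C 56, .F 26 1630, .R 27 400 55, .C 56, .C 1320, .R 18 280 43, .C 1320, .C 56, .R 19 932 113, .F 20 1500, .C 56, .C 1320, .R 10 420 60, .F 11 1740, .C 1320, .C 56, .F 1 176, .F 3 122, .R 5 122 25, .C 56, .C 1320, .F 6 6, .F 9 395, .R 12 402 56, .C 1320] [],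
    .eq false none 1062 3 [.F 29 300] [.F 14 1022, .F 14 1067, .F 13 940, .F 13 32, .F 14 0]]

theorem ok0 : checkFrom P 0 w0 = true := by decide +kernel

variable {G : Type*} [Group G] {e : ℕ → G} {r : G}

theorem holds (hR : Rules e r) (hrels : ∀ w, w < P.rels.length → readW e r (P.rels.getD w []).reverse = 1) :
    ∀ m, m < 31 → (P.fact m).Holds P e r := by
  have h : ∀ m, m < 0 → (P.fact m).Holds P e r := fun m hm => absurd hm (Nat.not_lt_zero m)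
  have h := checkFrom_sound P hR hrels w0 0 ok0 h
  exact fun m hm => h m hm

end Cfsg.Agent.J3Uniq.C452
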