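import Cfsg.Agent.Lib.J3Uniq.Check

/-!
A certificate for the case of orders `4`, `7` and exponent `1`.
-/

set_option autoImplicit false
set_option maxRecDepth 20000
set_option Elab.async false

namespace Cfsg.Agent.J3Uniq.C471

/-- facts -/
def f0 : List Fact :=
  [⟨false, 120, 0, 0, 0, 120⟩,
    ⟨false, 1740, 0, 0, 0, 1740⟩,
    ⟨false, 56, 0, 0, 0, 56⟩,
    ⟨false, 59, 0, 0, 0, 59⟩,
    ⟨false, 23, 0, 0, 0, 23⟩,
    ⟨true, 0, 0, 0, 1, 0⟩,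
    ⟨false, 49, 1, 0, 1, 23⟩,
    ⟨false, 1740, 1, 0, 1, 120⟩,
    ⟨false, 5, 1, 0, 1, 5⟩,
    ⟨false, 1727, 1, 0, 1, 923⟩,
    ⟨true, 180, 1, 0, 2, 0⟩,
    ⟨false, 409, 2, 1320, 0, 0⟩,
    ⟨true, 0, 1, 1320, 1, 1320⟩,
    ⟨true, 1, 1, 0, 3, 0⟩,
    ⟨false, 662, 3, 0, 3, 938⟩,
    ⟨false, 32, 3, 0, 3, 42⟩,
    ⟨true, 1, 3, 0, 4, 0⟩,
    ⟨false, 1062, 4, 0, 4, 65⟩,
    ⟨true, 7, 4, 0, 5, 0⟩,
    ⟨true, 11, 5, 0, 6, 0⟩,
    ⟨true, 11, 6, 0, 7, 0⟩,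
    ⟨true, 1, 7, 0, 8, 0⟩,
    ⟨false, 62, 8, 1796, 1, 236⟩,
    ⟨true, 791, 5, 0, 9, 0⟩,
    ⟨true, 3, 9, 0, 10, 0⟩,
    ⟨true, 787, 10, 0, 11, 0⟩,
    ⟨true, 1, 11, 0, 12, 0⟩,
    ⟨true, 787, 12, 0, 13, 0⟩,
    ⟨true, 1, 13, 0, 14, 0⟩,
    ⟨false, 1487, 14, 1499, 5, 296⟩,
    ⟨true, 0, 3, 1403, 3, 120⟩,
    ⟨true, 0, 4, 1600, 4, 722⟩]

/-- facts -/
def f1 : List Fact :=
  [⟨false, 268, 10, 1890, 9, 120⟩,
    ⟨true, 462, 9, 0, 11, 120⟩,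
    ⟨false, 0, 6, 872, 11, 120⟩,
    ⟨false, 1298, 7, 0, 12, 120⟩,
    ⟨true, 1606, 7, 0, 13, 120⟩,
    ⟨false, 1617, 5, 665, 5, 1016⟩,
    ⟨true, 1789, 5, 0, 9, 1016⟩,
    ⟨false, 852, 9, 1002, 3, 1080⟩,
    ⟨false, 245, 4, 818, 6, 965⟩,
    ⟨true, 1612, 4, 0, 7, 965⟩,
    ⟨false, 1667, 4, 1022, 5, 239⟩,
    ⟨false, 208, 4, 1358, 4, 57⟩,
    ⟨true, 220, 4, 1897, 3, 662⟩,
    ⟨false, 481, 3, 0, 7, 837⟩,
    ⟨false, 1120, 3, 0, 13, 837⟩,
    ⟨false, 1500, 4, 1764, 4, 57⟩,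
    ⟨false, 0, 4, 0, 4, 65⟩]

/-- the certificate -/
def P : Cert where
  nodes := [(0, 0), (1, 180), (1, 1), (3, 1), (4, 7), (5, 11), (6, 11), (7, 1), (5, 791), (9, 3), (10, 787), (11, 1), (12, 787), (13, 1)]
  rels := [[1920, 1920, 1920], [1320, 1920, 1320, 1920], [1920, 2, 1320, 1920, 1320, 5], [1920, 56, 1920, 56, 1920, 56, 1920, 56, 1920, 56, 1920, 56, 1920, 56, 1920, 56], [1320, 1920, 1320, 56, 1920, 56, 1320, 1920, 1320, 56, 1920, 56, 1320, 1920, 1320, 56, 1920, 56, 1320, 1920, 1320, 56, 1920, 56, 1320, 1920, 1320, 56, 1920, 56, 1320, 1920, 1320, 56, 1920, 56, 1320, 1920, 1320, 56, 1920, 56, 2]]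
  facts := [f0, f1]

/-- justifications -/
def w0 : List Why :=
  [.one,
    .one,
    .one,
    .one,
    .one,
    .node,
    .eq false none 23 0 [.R 5 23 3] [.F 4 0, .R 5 0 0],
    .eq false none 120 0 [.R 5 120 24] [.F 0 0, .R 5 0 0],
    .eq false none 5 0 [.R 5 5 2] [.F 2 59, .F 3 0, .R 5 0 0],
    .eq false none 923 0 [.R 5 923 111] [.F 3 927, .F 1 1347, .F 3 1343, .F 4 1320, .F 3 1379, .F 1 59, .F 3 0, .R 5 0 0],
    .node,
    .eq false (some (1, 3)) 0 0 [.R 5 0 0, .C 1320, .R 10 660 84] [.C 1320],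
    .eq true (some (0, 2)) 0 0 [.R 5 0 0] [.C 1320, .F 3 1379, .F 1 59, .F 3 0, .R 5 0 0, .C 1320],
    .node,
    .eq false none 1483 1 [.R 13 1490 155] [.F 8 1491, .F 9 1, .R 13 0 0],
    .eq false none 43 1 [.R 13 50 11] [.F 6 7, .F 8 1, .R 13 0 0],
    .node,
    .eq false none 1726 3 [.R 16 1720 175] [.F 15 1699, .F 14 34, .F 15 36, .F 15 1, .R 16 0 0],
    .node,
    .node,
    .node,
    .node,
    .eq false (some (3, 14)) 0 0 [.C 56, .F 3 2, .R 5 2 1, .C 56, .F 6 6, .F 9 395, .R 13 402 56, .C 56, .F 14 618, .F 15 616, .R 16 623 75, .C 56, .R 18 282 44, .C 56, .R 19 640 79, .C 56, .R 20 280 43, .C 56, .R 21 632 77] [.C 1320, .F 3 1379, .F 1 59, .F 3 0, .R 5 0 0, .C 1320, .C 56],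
    .node,
    .node,
    .node,
    .node,
    .node,
    .node,
    .eq false (some (4, 30)) 0 0 [.C 2, .C 56, .F 3 0, .R 5 0 0, .C 56, .C 1320, .F 9 88, .F 8 95, .R 13 102 20, .C 1320, .C 56, .F 15 1578, .F 14 1152, .F 14 1706, .R 16 1712 173, .C 56, .C 1320, .R 18 392 53, .C 1320, .C 56, .R 23 949 118, .C 56, .C 1320, .R 24 92 17, .C 1320, .C 56, .R 25 1052 125, .C 56, .C 1320, .R 26 462 68, .C 1320, .C 56, .R 27 1703 171, .C 56, .C 1320, .R 28 383 51] [.C 1320, .C 1320, .R 5 0 0, .C 1320, .C 1320, .C 56, .C 1320, .F 9 88, .F 8 95, .R 13 102 20, .C 1320, .C 56, .C 1320, .C 1320, .F 15 1578, .F 14 1152, .F 14 1706, .R 16 1712 173, .C 1320, .C 1320, .C 56, .C 1320, .R 18 392 53, .C 1320, .C 56, .C 1320],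
    .eq true (some (0, 2)) 1 1 [.R 13 0 0] [.C 1320, .F 7 901, .R 13 900 108, .C 1320],
    .eq true (some (0, 2)) 1 3 [.R 16 0 0] [.C 1320, .F 14 427, .F 15 466, .R 16 460 67, .C 1320],
    .eq false (some (3, 9)) 300 3 [.C 56, .F 15 730, .F 15 755, .R 16 762 104, .C 56, .R 18 443 63, .C 56, .R 23 270 40, .C 56, .R 24 623 75, .C 56] [.C 1320, .R 30 600 72, .C 1320, .C 56, .C 1320, .F 15 430, .F 15 455, .R 16 462 68, .C 1320, .C 56, .C 1320, .R 18 743 99, .C 1320, .C 56, .C 1320, .R 23 1710 172, .C 1320],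
    .eq true none 787 10 [.F 32 210] [.R 25 0 0],
    .eq false (some (0, 1)) 11 5 [.R 19 0 0] [.C 1320, .R 23 1500 156, .C 1320, .C 1320, .R 33 630 76, .C 1320],
    .eq false none 1 11 [.B 34 454, .R 20 462 68] [.R 26 0 0],
    .eq true none 787 12 [.B 35 787] [.R 27 0 0],
    .eq false (some (4, 43)) 665 5 [.C 2, .C 56, .R 19 450 64, .C 56, .C 1320, .R 20 709 94, .C 1320, .C 56, .R 21 1043 123, .F 22 1505, .C 56, .C 1320, .R 10 362 49, .F 11 1742, .C 1320, .C 56, .F 1 179, .F 3 120, .R 5 120 24, .C 56, .C 1320, .F 6 12, .F 9 76, .R 13 83 15, .C 1320, .C 56, .F 14 1030, .F 15 1055, .R 16 1062 128, .C 56, .C 1320, .R 18 443 63, .C 1320, .C 56, .R 23 1710 172, .C 56, .C 1320, .R 24 383 51, .F 32 1796, .C 1320, .C 56, .R 33 942 116, .B 34 1802, .C 56, .C 1320, .R 20 1069 130, .C 1320, .C 56, .R 36 1052 125, .C 56, .C 1320, .R 28 462 68, .F 29 5, .C 1320] [],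
    .eq true none 791 5 [.F 37 650] [.R 23 0 0],
    .eq false (some (3, 3)) 962 5 [.C 56, .F 37 2, .R 38 949 118, .C 56] [.C 1320, .R 38 90 16, .C 1320, .C 56, .C 1320, .R 24 1283 135, .F 32 176, .C 1320, .C 56, .C 1320, .R 33 942 116, .B 34 1802, .C 1320, .C 56, .C 1320, .R 20 469 70, .C 1320, .C 56, .C 1320, .R 21 743 99, .F 22 125, .C 1320, .C 56, .C 1320, .R 12 1742 181, .C 1320, .C 56, .C 1320, .F 6 6, .F 9 395, .R 13 402 56, .C 1320],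
    .eq false none 462 9 [.F 39 1707, .F 14 1267, .F 15 1306, .R 16 1300 139] [.R 33 0 0, .B 34 818],
    .eq true none 11 6 [.B 40 397] [.R 20 0 0],
    .eq false (some (0, 3)) 1022 5 [.R 38 690 88, .F 39 274, .F 14 53, .F 15 43, .R 16 50 11, .R 31 32 5] [],
    .eq false none 1679 5 [.B 42 1496] [.F 37 362, .B 42 1445],
    .eq true none 1789 5 [.B 42 1482] [.R 38 0 0, .F 39 85],
    .eq false none 1612 4 [.F 43 1542, .R 44 158 30] [.R 41 0 0],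
    .eq false none 1606 7 [.B 45 1606, .R 30 1540 163] [.R 36 0 0],
    .eq false none 1 13 [.B 46 1, .F 14 1776, .F 15 1741, .R 16 1740 180] [.R 28 0 0, .F 29 1487, .B 42 569]]

theorem ok0 : checkFrom P 0 w0 = true := by decide +kernel

/-- justifications -/
def w1 : List Why :=
  [.eq false none 144 4 [.F 47 1404] [.F 43 527, .F 17 0]]

theorem ok1 : checkFrom P 48 w1 = true := by decide +kernel

variable {G : Type*} [Group G] {e : ℕ → G} {r : G}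

theorem holds (hR : Rules e r) (hrels : ∀ w, w < P.rels.length → readW e r (P.rels.getD w []).reverse = 1) :
    ∀ m, m < 49 → (P.fact m).Holds P e r := by
  have h : ∀ m, m < 0 → (P.fact m).Holds P e r := fun m hm => absurd hm (Nat.not_lt_zero m)
  have h := checkFrom_sound P hR hrels w0 0 ok0 h
  have h := checkFrom_sound P hR hrels w1 48 ok1 h
  exact fun m hm => h m hm

end Cfsg.Agent.J3Uniq.C471
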