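import Cfsg.Agent.Lib.J3Uniq.Check

/-!
A certificate for the case of orders `5`, `4` and exponent `1`.
-/

set_option autoImplicit false
set_option maxRecDepth 20000
set_option Elab.async false

namespace Cfsg.Agent.J3Uniq.C541

/-- facts -/
def f0 : List Fact :=
  [⟨false, 120, 0, 0, 0, 120⟩,
    ⟨false, 1740, 0, 0, 0, 1740⟩,
    ⟨false, 56, 0, 0, 0, 56⟩,
    ⟨false, 59, 0, 0, 0, 59⟩,
    ⟨false, 23, 0, 0, 0, 23⟩,
    ⟨true, 0, 0, 0, 1, 0⟩,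
    ⟨false, 49, 1, 0, 1, 23⟩,
    ⟨false, 1500, 1, 0, 1, 1740⟩,
    ⟨false, 1740, 1, 0, 1, 120⟩,
    ⟨false, 5, 1, 0, 1, 5⟩,
    ⟨false, 1727, 1, 0, 1, 923⟩,
    ⟨true, 180, 1, 0, 2, 0⟩,
    ⟨false, 409, 2, 1320, 0, 0⟩,
    ⟨true, 0, 1, 1320, 1, 1320⟩,
    ⟨true, 1, 1, 0, 3, 0⟩,
    ⟨false, 662, 3, 0, 3, 938⟩,
    ⟨false, 32, 3, 0, 3, 42⟩,
    ⟨true, 1, 3, 0, 4, 0⟩,
    ⟨false, 1062, 4, 0, 4, 65⟩,
    ⟨true, 7, 4, 0, 5, 0⟩,
    ⟨false, 662, 5, 0, 5, 65⟩,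
    ⟨true, 791, 5, 0, 6, 0⟩,
    ⟨true, 3, 6, 0, 7, 0⟩,
    ⟨true, 787, 7, 0, 8, 0⟩,
    ⟨false, 932, 8, 56, 1, 657⟩,
    ⟨true, 11, 5, 0, 9, 0⟩,
    ⟨false, 365, 9, 0, 9, 65⟩,
    ⟨true, 11, 9, 0, 10, 0⟩,
    ⟨false, 462, 10, 1857, 5, 1016⟩,
    ⟨true, 1616, 9, 378, 4, 965⟩,
    ⟨true, 0, 3, 1403, 3, 120⟩,
    ⟨true, 0, 4, 1600, 4, 722⟩]

/-- facts -/
def f1 : List Fact :=
  [⟨true, 268, 7, 1408, 7, 120⟩,
    ⟨true, 0, 9, 1080, 6, 0⟩,
    ⟨false, 1916, 5, 1382, 5, 479⟩,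
    ⟨true, 1909, 5, 0, 6, 479⟩,
    ⟨true, 709, 5, 0, 9, 479⟩,
    ⟨false, 560, 6, 1487, 4, 479⟩,
    ⟨true, 1892, 4, 0, 7, 479⟩,
    ⟨false, 640, 3, 7, 7, 1377⟩,
    ⟨true, 1840, 3, 447, 1, 900⟩,
    ⟨false, 589, 9, 11, 9, 1016⟩,
    ⟨true, 589, 9, 987, 5, 0⟩,
    ⟨true, 787, 4, 0, 11, 0⟩,
    ⟨true, 1, 4, 0, 12, 0⟩,
    ⟨true, 180, 12, 0, 13, 0⟩,
    ⟨false, 409, 13, 1321, 4, 0⟩,
    ⟨true, 181, 4, 0, 14, 0⟩,
    ⟨false, 1655, 11, 1620, 9, 1622⟩,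
    ⟨true, 7, 12, 0, 15, 0⟩,
    ⟨true, 791, 15, 0, 16, 0⟩,
    ⟨false, 1729, 16, 868, 12, 1523⟩,
    ⟨true, 787, 12, 0, 17, 0⟩,
    ⟨true, 1, 17, 0, 18, 0⟩,
    ⟨false, 1487, 18, 1278, 12, 1487⟩,
    ⟨true, 417, 15, 1276, 17, 289⟩,
    ⟨false, 632, 17, 1816, 17, 1487⟩,
    ⟨false, 1302, 15, 11, 15, 1523⟩,
    ⟨true, 522, 15, 561, 12, 0⟩,
    ⟨true, 1, 5, 0, 19, 0⟩,
    ⟨true, 1, 9, 0, 20, 0⟩,
    ⟨false, 1547, 20, 0, 20, 1919⟩,
    ⟨true, 1, 12, 0, 21, 0⟩,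
    ⟨true, 180, 21, 0, 22, 0⟩]

/-- facts -/
def f2 : List Fact :=
  [⟨false, 409, 22, 1321, 12, 0⟩,
    ⟨true, 1, 20, 0, 23, 0⟩,
    ⟨true, 783, 23, 0, 24, 0⟩,
    ⟨false, 287, 24, 868, 21, 983⟩,
    ⟨true, 1, 21, 0, 25, 0⟩,
    ⟨true, 7, 25, 0, 26, 0⟩,
    ⟨false, 1442, 26, 1816, 21, 177⟩,
    ⟨false, 1625, 25, 7, 25, 177⟩,
    ⟨true, 3, 12, 0, 27, 0⟩,
    ⟨true, 1, 25, 0, 28, 0⟩,
    ⟨false, 169, 28, 0, 28, 177⟩,
    ⟨true, 1, 28, 0, 29, 0⟩,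
    ⟨false, 443, 29, 1406, 25, 1774⟩,
    ⟨false, 783, 25, 1652, 25, 611⟩,
    ⟨true, 947, 25, 875, 21, 819⟩,
    ⟨false, 1876, 21, 815, 21, 639⟩,
    ⟨false, 815, 12, 1255, 12, 639⟩,
    ⟨false, 900, 27, 1255, 4, 1233⟩,
    ⟨false, 1292, 17, 0, 17, 639⟩,
    ⟨false, 438, 12, 1033, 12, 468⟩,
    ⟨false, 815, 4, 1675, 4, 1236⟩,
    ⟨false, 1292, 5, 0, 5, 1236⟩,
    ⟨false, 758, 14, 931, 3, 1911⟩,
    ⟨false, 269, 9, 27, 9, 39⟩,
    ⟨false, 272, 19, 1413, 4, 1469⟩,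
    ⟨false, 107, 20, 987, 5, 39⟩]

/-- the certificate -/
def P : Cert where
  nodes := [(0, 0), (1, 180), (1, 1), (3, 1), (4, 7), (5, 791), (6, 3), (7, 787), (5, 11), (9, 11), (4, 787), (4, 1), (12, 180), (4, 181), (12, 7), (15, 791), (12, 787), (17, 1), (5, 1), (9, 1), (12, 1), (21, 180), (20, 1), (23, 783), (21, 1), (25, 7), (12, 3), (25, 1), (28, 1)]
  rels := [[1920, 1920, 1920], [1320, 1920, 1320, 1920], [1920, 2, 1320, 1920, 1320, 5], [1920, 56, 1920, 56, 1920, 56, 1920, 56, 1920, 56, 1920, 56, 1920, 56, 1920, 56, 1920, 56, 1920, 56], [1320, 1920, 1320, 56, 1920, 56, 1320, 1920, 1320, 56, 1920, 56, 1320, 1920, 1320, 56, 1920, 56, 1320, 1920, 1320, 56, 1920, 56, 2]]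
  facts := [f0, f1, f2]

/-- justifications -/
def w0 : List Why :=
  [.one,
    .one,
    .one,
    .one,
    .one,
    .node,
    .eq false none 23 0 [.R 5 23 3] [.F 4 0, .R 5 0 0],
    .eq false none 1740 0 [.R 5 1740 180] [.F 1 0, .R 5 0 0],
    .eq false none 120 0 [.R 5 120 24] [.F 0 0, .R 5 0 0],
    .eq false none 5 0 [.R 5 5 2] [.F 2 59, .F 3 0, .R 5 0 0],
    .eq false none 923 0 [.R 5 923 111] [.F 3 927, .F 1 1347, .F 3 1343, .F 4 1320, .F 3 1379, .F 1 59, .F 3 0, .R 5 0 0],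
    .node,
    .eq false (some (1, 3)) 0 0 [.R 5 0 0, .C 1320, .R 11 660 84] [.C 1320],
    .eq true (some (0, 2)) 0 0 [.R 5 0 0] [.C 1320, .F 3 1379, .F 1 59, .F 3 0, .R 5 0 0, .C 1320],
    .node,
    .eq false none 1483 1 [.R 14 1490 155] [.F 9 1491, .F 10 1, .R 14 0 0],
    .eq false none 43 1 [.R 14 50 11] [.F 6 7, .F 9 1, .R 14 0 0],
    .node,
    .eq false none 1726 3 [.R 17 1720 175] [.F 16 1699, .F 15 34, .F 16 36, .F 16 1, .R 17 0 0],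
    .node,
    .eq false none 1476 4 [.R 19 1490 155] [.F 18 7, .R 19 0 0],
    .node,
    .node,
    .node,
    .eq false (some (4, 21)) 0 0 [.C 2, .C 56, .F 3 0, .R 5 0 0, .C 56, .C 1320, .F 10 88, .F 9 95, .R 14 102 20, .C 1320, .C 56, .F 16 1578, .F 15 1152, .F 15 1706, .R 17 1712 173, .C 56, .C 1320, .R 19 392 53, .C 1320, .C 56, .R 21 949 118, .C 56, .C 1320, .R 22 92 17, .C 1320, .C 56, .R 23 1052 125] [.C 1320, .C 1320, .R 5 0 0, .C 1320, .C 1320, .C 56],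
    .node,
    .eq false none 677 5 [.R 25 698 90] [.F 20 11, .R 25 0 0],
    .node,
    .eq false (some (3, 12)) 0 0 [.C 56, .F 3 2, .R 5 2 1, .C 56, .F 6 6, .F 10 395, .R 14 402 56, .C 56, .F 15 618, .F 16 616, .R 17 623 75, .C 56, .R 19 282 44, .C 56, .R 25 640 79, .C 56, .R 27 280 43] [.C 1320, .F 3 1379, .F 1 59, .F 3 0, .R 5 0 0, .C 1320, .C 56, .C 1320, .F 10 1708, .F 9 1715, .R 14 1722 176, .C 1320, .C 56, .C 1320, .F 16 918, .F 16 916, .R 17 923 111, .C 1320, .C 56, .C 1320, .R 19 1722 176, .C 1320, .C 56],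
    .eq true (some (4, 15)) 0 1 [.C 2, .C 56, .F 6 6, .F 10 395, .R 14 402 56, .C 56, .C 1320, .R 17 272 41, .C 1320, .C 56, .R 19 932 113, .C 56, .C 1320, .R 25 109 22, .C 1320, .C 56] [.C 1320, .C 1320, .R 13 0 0, .C 1320, .C 1320, .C 56, .C 1320, .F 10 1708, .F 9 1715, .R 14 1722 176, .C 1320, .C 56, .C 1320, .C 1320, .F 16 1818, .F 15 792, .F 15 1466, .R 17 1472 149, .C 1320, .C 1320, .C 56],
    .eq true (some (0, 2)) 1 1 [.R 14 0 0] [.C 1320, .F 8 901, .R 14 900 108, .C 1320],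
    .eq true (some (0, 2)) 1 3 [.R 17 0 0] [.C 1320, .F 15 427, .F 16 466, .R 17 460 67, .C 1320],
    .eq true (some (3, 10)) 300 3 [.C 56, .F 16 730, .F 16 755, .R 17 762 104, .C 56, .R 19 443 63, .C 56, .R 21 270 40, .C 56, .R 22 623 75, .C 56] [.C 1320, .R 30 600 72, .C 1320, .C 56, .C 1320, .F 16 430, .F 16 455, .R 17 462 68, .C 1320, .C 56, .C 1320, .R 19 743 99, .C 1320, .C 56, .C 1320, .R 21 1710 172, .C 1320, .C 56, .C 1320, .R 22 923 111, .C 1320, .C 56],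
    .eq true (some (0, 2)) 11 5 [.R 25 0 0] [.C 1320, .R 21 1500 156, .C 1320],
    .eq false (some (3, 20)) 1382 5 [.C 56, .R 21 1309 142, .C 56, .R 22 92 17, .C 56, .R 23 692 89, .F 24 1500, .C 56, .R 11 420 60, .F 12 1740, .C 56, .F 1 1556, .F 3 1502, .R 5 1502 157, .C 56, .F 6 126, .F 10 635, .R 14 642 80, .C 56, .R 17 272 41, .C 56, .R 19 632 77, .C 56, .R 25 289 46, .C 56, .R 27 630 76, .F 28 5] [],
    .eq true none 791 5 [.F 34 402] [.R 21 0 0],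
    .eq true none 11 5 [.F 34 1842] [.R 25 0 0],
    .eq false (some (4, 5)) 776 5 [.C 2, .C 56, .R 35 700 91, .C 56, .C 1320] [.C 1320, .C 1320, .F 34 1080, .R 36 750 100, .C 1320, .C 1320, .C 56, .C 1320, .R 29 1505 158, .C 1320, .C 56, .C 1320, .C 1320, .R 31 1298 138, .C 1320, .C 1320, .C 56, .C 1320, .R 19 1292 137, .C 1320, .C 56, .C 1320, .C 1320, .F 34 1085, .R 36 1489 154, .C 1320, .C 1320, .C 56, .C 1320, .R 29 1500 156, .C 1320, .C 56, .C 1320, .C 1320, .R 31 770 107, .C 1320],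
    .eq true none 3 6 [.F 37 1170] [.R 22 0 0],
    .eq false (some (0, 3)) 7 7 [.R 32 750 100, .R 23 1043 123, .F 24 1478, .F 6 1443, .F 10 766, .R 14 760 103] [],
    .eq true none 787 7 [.B 39 780] [.R 23 0 0, .F 24 458],
    .eq false (some (1, 4)) 11 9 [.R 27 0 0, .F 28 390, .C 1320, .F 34 518, .R 36 1487 153, .C 1320] [],
    .eq true none 11 9 [.F 41 588] [.R 27 0 0, .F 28 390],
    .node,
    .node,
    .node,
    .eq false (some (1, 3)) 1 4 [.R 44 0 0, .C 1320, .R 45 660 84] [.C 1320],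
    .node]

theorem ok0 : checkFrom P 0 w0 = true := by decide +kernel

/-- justifications -/
def w1 : List Why :=
  [.eq false (some (4, 14)) 6 1 [.C 2, .C 56, .R 13 49 10, .C 56, .C 1320, .F 9 1715, .R 14 1722 176, .C 1320, .C 56, .F 16 1818, .F 15 792, .F 15 1466, .R 17 1472 149, .C 56, .C 1320, .R 43 452 65, .C 1320, .C 56] [.C 1320, .C 1320, .F 10 395, .R 14 402 56, .C 1320, .C 1320, .C 56, .C 1320, .R 17 272 41, .C 1320, .C 56, .C 1320, .C 1320, .R 19 932 113, .C 1320, .C 1320, .C 56, .C 1320, .F 34 785, .R 36 109 22, .C 1320],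
    .node,
    .node,
    .eq false (some (4, 15)) 1 1 [.C 2, .C 56, .F 9 55, .R 14 49 10, .C 56, .C 1320, .F 15 860, .F 15 635, .R 17 642 80, .C 1320, .C 56, .R 44 1712 173, .C 56, .C 1320, .R 49 392 53, .C 1320, .C 56, .R 50 949 118] [.C 1320, .C 1320, .R 14 0 0, .C 1320, .C 1320, .C 56, .C 1320, .F 16 1330, .F 15 186, .F 15 256, .R 17 263 39, .C 1320, .C 56, .C 1320, .C 1320, .R 44 923 111, .C 1320, .C 1320, .C 56],
    .node,
    .node,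
    .eq false (some (4, 12)) 180 3 [.C 2, .C 56, .F 16 1048, .F 16 1046, .R 17 1052 125, .C 56, .C 1320, .R 44 462 68, .C 1320, .C 56, .R 52 1703 171, .C 56, .C 1320, .R 53 383 51] [.C 1320, .C 1320, .R 40 1730 179, .C 1320, .C 1320, .C 56, .C 1320, .F 9 91, .R 14 98 18, .C 1320, .C 56, .C 1320, .C 1320, .F 15 1386, .F 15 736, .R 17 743 99, .C 1320, .C 1320, .C 56, .C 1320, .F 18 126, .F 18 86, .R 44 92 17, .C 1320, .C 56, .C 1320],
    .eq true (some (4, 12)) 60 3 [.C 2, .C 56, .F 16 628, .F 16 626, .R 17 632 77, .C 56, .C 1320, .F 18 20, .F 18 616, .R 44 623 75, .C 1320, .C 56, .R 49 1722 176, .C 56, .C 1320] [.C 1320, .C 1320, .R 30 60 12, .C 1320, .C 1320, .C 56, .C 1320, .F 15 1886, .F 15 1518, .F 16 1516, .R 17 1523 159, .C 1320, .C 56, .C 1320, .C 1320, .F 18 755, .R 44 762 104, .C 1320, .C 1320, .C 56, .C 1320, .R 52 83 15, .C 1320, .C 56, .C 1320],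
    .eq false (some (3, 9)) 5 3 [.C 56, .F 16 18, .F 16 16, .R 17 23 3, .C 56, .F 18 695, .R 44 702 92, .C 56, .R 49 683 87, .C 56, .R 55 125 26, .C 56] [.C 1320, .R 40 1067 129, .C 1320, .C 56, .C 1320, .F 8 711, .F 10 901, .R 14 900 108, .C 1320, .C 56, .C 1320, .R 17 1703 171, .C 1320, .C 56, .C 1320, .R 44 923 111, .C 1320, .C 56, .C 1320, .R 49 1722 176, .C 1320, .C 56, .C 1320, .R 55 1500 156, .C 1320],
    .eq false (some (0, 3)) 11 15 [.R 55 1730 179, .R 53 392 53, .F 54 410, .R 49 425 62] [],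
    .eq true none 791 15 [.F 57 494] [.R 50 0 0, .F 51 109],
    .node,
    .node,
    .eq false none 1795 9 [.R 60 1789 190] [.F 41 744, .F 26 1, .R 60 0 0],
    .node,
    .node,
    .eq false (some (1, 3)) 1 12 [.R 62 0 0, .C 1320, .R 63 660 84] [.C 1320],
    .node,
    .node,
    .eq false (some (4, 15)) 3 3 [.C 2, .C 56, .R 17 49 10, .C 56, .C 1320, .R 43 462 68, .F 48 1582, .C 1320, .C 56, .F 26 1704, .F 41 55, .R 60 42 8, .C 56, .C 1320, .F 61 146, .R 65 152 29, .C 1320, .C 56, .R 66 1283 135] [.C 1320, .C 1320, .F 15 781, .F 15 1027, .F 16 1066, .R 17 1060 127, .C 1320, .C 1320, .C 56, .C 1320, .F 18 256, .R 44 263 39, .C 1320, .C 56, .C 1320, .C 1320, .R 62 923 111, .C 1320, .C 1320, .C 56],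
    .node,
    .node,
    .eq false (some (4, 12)) 7 4 [.C 2, .C 56, .F 18 64, .R 44 62 13, .C 56, .C 1320, .R 62 642 80, .C 1320, .C 56, .R 68 1712 173, .C 56, .C 1320, .R 69 392 53] [.C 1320, .C 1320, .R 19 0 0, .C 1320, .C 1320, .C 56, .C 1320, .F 34 1020, .R 35 390 52, .F 37 371, .C 1320, .C 56, .C 1320, .C 1320, .R 44 360 48, .C 1320, .C 1320, .C 56, .C 1320, .R 62 263 39, .C 1320, .C 56, .C 1320],
    .eq false (some (1, 4)) 7 25 [.R 69 0 0, .F 70 905, .C 1320, .R 68 102 20, .C 1320] [],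
    .node,
    .node,
    .eq false none 1516 25 [.R 73 1523 159] [.F 71 6, .R 73 0 0],
    .node,
    .eq false (some (4, 18)) 64 12 [.C 2, .C 56, .R 49 640 79, .C 56, .C 1320, .F 57 492, .R 58 40 7, .C 1320, .C 56, .R 62 360 48, .C 56, .C 1320, .R 68 263 39, .C 1320, .C 56, .R 73 923 111, .C 56, .C 1320, .F 74 256, .R 75 263 39] [.C 1320, .C 1320, .R 62 62 13, .C 1320, .C 1320, .C 56, .C 1320, .R 68 642 80, .C 1320, .C 56, .C 1320],
    .eq false (some (4, 17)) 548 20 [.C 2, .C 56, .R 65 760 103, .C 56, .C 1320, .R 66 162 32, .F 67 642, .C 1320, .C 56, .R 68 360 48, .C 56, .C 1320, .R 73 263 39, .C 1320, .C 56, .R 75 923 111, .F 76 949, .C 56, .C 1320] [.C 1320, .C 1320, .F 61 1315, .R 65 1309 142, .C 1320, .C 1320, .C 56, .C 1320, .R 66 152 29, .F 67 692, .C 1320, .C 56, .C 1320, .C 1320, .R 68 62 13, .C 1320],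
    .eq true none 7 25 [.F 77 1026, .F 77 1122] [.R 69 0 0, .F 70 905],
    .eq false none 1490 25 [.R 78 122 25] [.F 77 1315, .F 71 4, .R 78 407 57],
    .eq false none 1180 21 [.R 63 40 7, .F 64 462] [.F 79 267, .R 63 0 0, .F 64 1309],
    .eq false none 180 12 [.F 80 267, .R 72 1043 123] [.R 45 0 0, .F 46 1309],
    .eq false none 498 12 [.R 52 452 65] [.F 80 1428, .R 52 0 0],
    .eq false none 55 17 [.R 53 49 10, .F 54 1680] [.F 82 202, .F 82 493, .F 56 1015, .F 82 1, .R 53 0 0, .F 54 1487],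
    .eq false none 1479 12 [.R 72 1478 150, .F 81 38] [.F 83 1252, .F 80 959, .R 72 0 0, .F 81 1260],
    .eq false none 438 4 [.R 19 452 65] [.F 84 1548, .R 19 0 0],
    .eq false none 1892 4 [.F 84 476, .F 18 511, .R 47 98 18] [.R 38 0 0, .B 39 4],
    .eq false none 1638 4 [.R 43 1292 137, .F 48 1829] [.F 84 1128, .R 43 0 0, .F 48 987],
    .eq false none 1909 5 [.F 34 385, .F 85 1881, .F 85 1297, .R 59 1290 136] [.R 35 0 0, .F 37 257],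
    .eq false none 589 9 [.F 87 1581, .F 87 614, .R 60 623 75] [.R 42 0 0]]

theorem ok1 : checkFrom P 48 w1 = true := by decide +kernel

variable {G : Type*} [Group G] {e : ℕ → G} {r : G}

theorem holds (hR : Rules e r) (hrels : ∀ w, w < P.rels.length → readW e r (P.rels.getD w []).reverse = 1) :
    ∀ m, m < 90 → (P.fact m).Holds P e r := by
  have h : ∀ m, m < 0 → (P.fact m).Holds P e r := fun m hm => absurd hm (Nat.not_lt_zero m)
  have h := checkFrom_sound P hR hrels w0 0 ok0 h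
  have h := checkFrom_sound P hR hrels w1 48 ok1 h
  exact fun m hm => h m hm

end Cfsg.Agent.J3Uniq.C541
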