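import Cfsg.Agent.Lib.J3Uniq.Cases.C541

/-!
Paths exhibiting an element of order five centralising a four group in the case of the Hall–Janko group.
-/

set_option autoImplicit false

namespace Cfsg.Agent.J3Uniq.C541

/-- the word -/
def W : List ℕ := [0, 1920, 1, 1920, 1, 1920, 1067]

/-- a path -/
def pI1 : List Op :=
  [.C 1104, .C 0, .F 1 1464, .F 3 1475, .F 4 1499, .F 3 1440, .R 5 1440 144, .C 1, .F 8 651, .F 10 721, .R 14 720 96, .C 1, .F 16 1063, .R 17 1070 131, .C 1067, .F 84 1879, .F 18 1749, .F 84 1909]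

/-- a path -/
def pI2 : List Op :=
  [.C 0, .R 5 0 0, .C 1, .R 14 0 0, .C 1, .R 17 0 0, .C 1067, .C 1104, .F 18 1794, .F 18 1444, .F 84 820, .F 84 1909]

/-- a path -/
def pJ1 : List Op :=
  [.C 163, .C 0, .F 4 154, .F 3 158, .R 5 158 30, .C 1, .F 8 45, .F 10 763, .R 14 770 107, .C 1, .F 16 1073, .F 16 1063, .R 17 1070 131, .C 1067, .F 84 1879, .F 18 1749, .F 84 1909]

/-- a path -/
def pJ2 : List Op :=
  [.C 0, .R 5 0 0, .C 1, .R 14 0 0, .C 1, .R 17 0 0, .C 1067, .C 163, .F 18 1021]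

/-- a path -/
def pF5 : List Op :=
  [.C 0, .R 5 0 0, .C 1, .R 14 0 0, .C 1, .R 17 0 0, .C 1067, .C 0, .R 31 1067 129, .C 1, .R 19 900 108, .C 1, .F 34 1103, .R 36 1442 145, .C 1067, .C 0, .R 33 2 1, .F 37 207, .C 1, .R 31 392 53, .C 1, .R 43 1540 163, .F 48 1342, .C 1067, .C 0, .F 41 560, .F 87 1218, .F 87 132, .R 60 158 30, .F 89 640, .C 1, .F 34 1467, .F 85 1116, .F 85 61, .R 59 60 12, .F 88 282, .C 1, .R 31 709 94, .C 1067, .C 0, .F 84 1462, .F 18 1861, .R 47 1740 180, .F 86 1292, .C 1, .R 40 410 59, .C 1, .R 11 1463 147, .F 12 1487, .C 1067, .F 1 1800, .F 4 1823, .F 3 1827, .F 1 27, .F 3 23, .F 4 0]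

/-- a path -/
def pA : List Op :=
  [.C 707, .C 1320, .F 3 555, .F 1 915, .F 3 947, .R 5 947 117, .C 1320, .C 1, .C 1320, .R 14 0 0, .C 1320, .C 1, .C 1320, .R 17 1680 168, .C 1320, .C 0, .C 1284, .C 0, .F 84 187, .R 31 710 95, .C 1, .F 18 1906, .R 47 460 67, .F 86 289, .C 1, .R 40 400 55, .C 1067, .F 6 465, .F 10 1543, .F 9 1551, .F 10 61]

/-- first involution -/
def iI : ℕ := 1104

/-- second involution -/
def jI : ℕ := 163

/-- the conjugated element -/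
def cI : ℕ := 1284

end Cfsg.Agent.J3Uniq.C541
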