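import Cfsg.Agent.Lib.J3Uniq.Check

/-!
A certificate for the case of orders `7`, `3` and exponent `2`.
-/

set_option autoImplicit false
set_option maxRecDepth 20000
set_option Elab.async false

namespace Cfsg.Agent.J3Uniq.C732

/-- facts -/
def f0 : List Fact :=
  [⟨false, 120, 0, 0, 0, 120⟩,
    ⟨false, 1740, 0, 0, 0, 1740⟩,
    ⟨false, 56, 0, 0, 0, 56⟩,
    ⟨false, 59, 0, 0, 0, 59⟩,
    ⟨false, 23, 0, 0, 0, 23⟩,
    ⟨true, 0, 0, 0, 1, 0⟩,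
    ⟨false, 49, 1, 0, 1, 23⟩,
    ⟨false, 1500, 1, 0, 1, 1740⟩,
    ⟨false, 1740, 1, 0, 1, 120⟩,
    ⟨false, 5, 1, 0, 1, 5⟩,
    ⟨false, 1727, 1, 0, 1, 923⟩,
    ⟨true, 0, 1, 1320, 1, 1320⟩,
    ⟨true, 1, 1, 0, 2, 0⟩,
    ⟨false, 662, 2, 0, 2, 938⟩,
    ⟨false, 32, 2, 0, 2, 42⟩,
    ⟨true, 1, 2, 0, 3, 0⟩,
    ⟨true, 7, 3, 0, 4, 0⟩,
    ⟨true, 791, 4, 0, 5, 0⟩,
    ⟨false, 940, 5, 56, 1, 657⟩,
    ⟨true, 11, 4, 0, 6, 0⟩,
    ⟨true, 11, 6, 0, 7, 0⟩,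
    ⟨true, 1, 7, 0, 8, 0⟩,
    ⟨true, 11, 8, 0, 9, 0⟩,
    ⟨true, 11, 9, 0, 10, 0⟩,
    ⟨true, 1, 10, 0, 11, 0⟩,
    ⟨false, 425, 11, 1857, 4, 1016⟩,
    ⟨false, 1679, 6, 1865, 2, 1902⟩,
    ⟨true, 162, 2, 0, 7, 1350⟩,
    ⟨false, 1790, 7, 1403, 2, 1662⟩,
    ⟨false, 767, 3, 0, 8, 1080⟩,
    ⟨true, 832, 3, 0, 9, 1080⟩,
    ⟨false, 119, 4, 6, 1, 1354⟩]

/-- facts -/
def f1 : List Fact :=
  [⟨false, 5, 2, 77, 1, 480⟩,
    ⟨false, 777, 1, 393, 1, 925⟩,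
    ⟨false, 0, 1, 0, 1, 540⟩]

/-- the certificate -/
def P : Cert where
  nodes := [(0, 0), (1, 1), (2, 1), (3, 7), (4, 791), (4, 11), (6, 11), (7, 1), (8, 11), (9, 11), (10, 1)]
  rels := [[1920, 1920, 1920], [1320, 1920, 1320, 1920], [1920, 2, 1320, 1920, 1320, 5], [1920, 56, 1920, 56, 1920, 56, 1920, 56, 1920, 56, 1920, 56, 1920, 56, 1920, 56, 1920, 56, 1920, 56, 1920, 56, 1920, 56, 1920, 56, 1920, 56], [1320, 1920, 1320, 56, 1920, 56, 1320, 1920, 1320, 56, 1920, 56, 1320, 1920, 1320, 56, 1920, 56, 5]]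
  facts := [f0, f1]

/-- justifications -/
def w0 : List Why :=
  [.one,
    .one,
    .one,
    .one,
    .one,
    .node,
    .eq false none 23 0 [.R 5 23 3] [.F 4 0, .R 5 0 0],
    .eq false none 1740 0 [.R 5 1740 180] [.F 1 0, .R 5 0 0],
    .eq false none 120 0 [.R 5 120 24] [.F 0 0, .R 5 0 0],
    .eq false none 5 0 [.R 5 5 2] [.F 2 59, .F 3 0, .R 5 0 0],
    .eq false none 923 0 [.R 5 923 111] [.F 3 927, .F 1 1347, .F 3 1343, .F 4 1320, .F 3 1379, .F 1 59, .F 3 0, .R 5 0 0],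
    .eq true (some (0, 2)) 0 0 [.R 5 0 0] [.C 1320, .F 3 1379, .F 1 59, .F 3 0, .R 5 0 0, .C 1320],
    .node,
    .eq false none 1483 1 [.R 12 1490 155] [.F 9 1491, .F 10 1, .R 12 0 0],
    .eq false none 43 1 [.R 12 50 11] [.F 6 7, .F 9 1, .R 12 0 0],
    .node,
    .node,
    .node,
    .eq false (some (4, 15)) 0 0 [.C 5, .C 56, .F 3 5, .R 5 5 2, .C 56, .C 1320, .F 10 430, .F 9 436, .R 12 443 63, .C 1320, .C 56, .F 14 1630, .F 13 1146, .F 13 916, .R 15 923 111, .C 56, .C 1320, .R 16 102 20, .C 1320, .C 56, .R 17 1060 127] [.C 1320, .C 1320, .R 5 0 0, .C 1320, .C 1320, .C 56],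
    .node,
    .node,
    .node,
    .node,
    .node,
    .node,
    .eq false (some (3, 20)) 0 0 [.C 56, .F 3 2, .R 5 2 1, .C 56, .F 6 6, .F 10 395, .R 12 402 56, .C 56, .F 13 618, .F 14 616, .R 15 623 75, .C 56, .R 16 282 44, .C 56, .R 19 640 79, .C 56, .R 20 280 43, .C 56, .R 21 632 77, .C 56, .R 22 289 46, .C 56, .R 23 630 76, .C 56, .R 24 282 44] [.C 1320, .F 3 1379, .F 1 59, .F 3 0, .R 5 0 0, .C 1320, .C 56, .C 1320, .F 10 1708, .F 9 1715, .R 12 1722 176, .C 1320, .C 56, .C 1320, .F 14 918, .F 14 916, .R 15 923 111, .C 1320, .C 56, .C 1320, .R 16 1722 176, .C 1320, .C 56],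
    .eq false (some (4, 14)) 0 1 [.C 5, .C 56, .F 6 20, .F 10 446, .R 12 452 65, .C 56, .C 1320, .R 15 702 92, .C 1320, .C 56, .R 16 1043 123, .C 56, .C 1320, .R 19 450 64, .C 1320, .C 56] [.C 1320, .C 1320, .R 11 0 0, .C 1320, .C 1320, .C 56, .C 1320, .F 10 1708, .F 9 1715, .R 12 1722 176, .C 1320],
    .eq true none 11 6 [.F 26 1129] [.R 20 0 0],
    .eq false (some (0, 2)) 1 1 [.R 12 0 0, .R 27 150 28] [.C 1320, .F 8 901, .R 12 900 108, .C 1320],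
    .eq false none 1 7 [.F 28 1843, .F 14 96, .F 14 61, .R 15 60 12] [.R 21 0 0],
    .eq true none 11 8 [.B 29 11] [.R 22 0 0],
    .eq false (some (4, 19)) 6 1 [.C 5, .C 56, .R 11 40 7, .C 56, .C 1320, .F 9 1036, .R 12 1043 123, .C 1320, .C 56, .F 14 1870, .F 13 786, .F 13 1276, .R 15 1283 135, .C 56, .C 1320, .R 30 690 88, .C 1320, .C 56, .R 23 1069 130, .C 56, .C 1320, .R 24 443 63, .F 25 1742, .C 1320] [],
    .eq false none 791 4 [.F 31 1249, .F 8 1308, .F 10 9, .R 12 5 2] [.R 17 0 0, .F 18 110],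
    .eq false none 11 4 [.F 31 1729, .F 10 669, .R 12 665 86, .F 32 409] [.R 19 0 0, .F 26 1679, .F 32 179],
    .eq false none 1048 1 [.F 33 219, .F 7 1740, .F 8 0] [.F 7 1888, .F 8 748, .F 33 579]]

theorem ok0 : checkFrom P 0 w0 = true := by decide +kernel

variable {G : Type*} [Group G] {e : ℕ → G} {r : G}

theorem holds (hR : Rules e r) (hrels : ∀ w, w < P.rels.length → readW e r (P.rels.getD w []).reverse = 1) :
    ∀ m, m < 35 → (P.fact m).Holds P e r := by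
  have h : ∀ m, m < 0 → (P.fact m).Holds P e r := fun m hm => absurd hm (Nat.not_lt_zero m)
  have h := checkFrom_sound P hR hrels w0 0 ok0 h
  exact fun m hm => h m hm

end Cfsg.Agent.J3Uniq.C732
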