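import Cfsg.Agent.Lib.J3Uniq.Check

/-!
A certificate for the case of orders `7`, `4` and exponent `0`.
-/

set_option autoImplicit false
set_option maxRecDepth 20000
set_option Elab.async false

namespace Cfsg.Agent.J3Uniq.C740

/-- facts -/
def f0 : List Fact :=
  [⟨false, 120, 0, 0, 0, 120⟩,
    ⟨false, 1740, 0, 0, 0, 1740⟩,
    ⟨false, 56, 0, 0, 0, 56⟩,
    ⟨false, 59, 0, 0, 0, 59⟩,
    ⟨false, 23, 0, 0, 0, 23⟩,
    ⟨true, 0, 0, 0, 1, 0⟩,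
    ⟨false, 49, 1, 0, 1, 23⟩,
    ⟨false, 5, 1, 0, 1, 5⟩,
    ⟨false, 1727, 1, 0, 1, 923⟩,
    ⟨true, 180, 1, 0, 2, 0⟩,
    ⟨false, 409, 2, 1320, 0, 0⟩,
    ⟨true, 0, 1, 1320, 1, 1320⟩,
    ⟨true, 1, 1, 0, 3, 0⟩,
    ⟨false, 662, 3, 0, 3, 938⟩,
    ⟨false, 32, 3, 0, 3, 42⟩,
    ⟨true, 1, 3, 0, 4, 0⟩,
    ⟨true, 7, 4, 0, 5, 0⟩,
    ⟨true, 791, 5, 0, 6, 0⟩,
    ⟨true, 3, 6, 0, 7, 0⟩,
    ⟨true, 787, 7, 0, 8, 0⟩,
    ⟨false, 1722, 8, 56, 1, 657⟩,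
    ⟨true, 11, 5, 0, 9, 0⟩,
    ⟨true, 11, 9, 0, 10, 0⟩,
    ⟨true, 1, 10, 0, 11, 0⟩,
    ⟨true, 11, 11, 0, 12, 0⟩,
    ⟨true, 11, 12, 0, 13, 0⟩,
    ⟨true, 1, 13, 0, 14, 0⟩,
    ⟨false, 425, 14, 1857, 5, 1016⟩,
    ⟨true, 1017, 9, 378, 4, 965⟩,
    ⟨true, 0, 4, 1600, 4, 722⟩,
    ⟨true, 852, 6, 776, 11, 1685⟩,
    ⟨false, 1857, 5, 1382, 5, 479⟩]

/-- facts -/
def f1 : List Fact :=
  [⟨true, 522, 5, 0, 6, 479⟩,
    ⟨true, 1302, 5, 0, 9, 479⟩,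
    ⟨false, 1682, 11, 1228, 4, 1016⟩,
    ⟨true, 563, 4, 0, 12, 1016⟩,
    ⟨false, 0, 7, 1907, 12, 1685⟩,
    ⟨false, 1287, 1, 0, 13, 1316⟩,
    ⟨false, 302, 0, 1679, 5, 1260⟩,
    ⟨false, 1265, 0, 357, 0, 1199⟩,
    ⟨false, 0, 0, 0, 0, 120⟩]

/-- the certificate -/
def P : Cert where
  nodes := [(0, 0), (1, 180), (1, 1), (3, 1), (4, 7), (5, 791), (6, 3), (7, 787), (5, 11), (9, 11), (10, 1), (11, 11), (12, 11), (13, 1)]
  rels := [[1920, 1920, 1920], [1320, 1920, 1320, 1920], [1920, 2, 1320, 1920, 1320, 5], [1920, 56, 1920, 56, 1920, 56, 1920, 56, 1920, 56, 1920, 56, 1920, 56, 1920, 56, 1920, 56, 1920, 56, 1920, 56, 1920, 56, 1920, 56, 1920, 56], [1320, 1920, 1320, 56, 1920, 56, 1320, 1920, 1320, 56, 1920, 56, 1320, 1920, 1320, 56, 1920, 56, 1320, 1920, 1320, 56, 1920, 56]]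
  facts := [f0, f1]

/-- justifications -/
def w0 : List Why :=
  [.one,
    .one,
    .one,
    .one,
    .one,
    .node,
    .eq false none 23 0 [.R 5 23 3] [.F 4 0, .R 5 0 0],
    .eq false none 5 0 [.R 5 5 2] [.F 2 59, .F 3 0, .R 5 0 0],
    .eq false none 923 0 [.R 5 923 111] [.F 3 927, .F 1 1347, .F 3 1343, .F 4 1320, .F 3 1379, .F 1 59, .F 3 0, .R 5 0 0],
    .node,
    .eq false (some (1, 3)) 0 0 [.R 5 0 0, .C 1320, .R 9 660 84] [.C 1320],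
    .eq true (some (0, 2)) 0 0 [.R 5 0 0] [.C 1320, .F 3 1379, .F 1 59, .F 3 0, .R 5 0 0, .C 1320],
    .node,
    .eq false none 1483 1 [.R 12 1490 155] [.F 7 1491, .F 8 1, .R 12 0 0],
    .eq false none 43 1 [.R 12 50 11] [.F 6 7, .F 7 1, .R 12 0 0],
    .node,
    .node,
    .node,
    .node,
    .node,
    .eq false (some (4, 20)) 0 0 [.C 56, .F 3 2, .R 5 2 1, .C 56, .C 1320, .F 8 378, .F 7 386, .R 12 392 53, .C 1320, .C 56, .F 14 988, .F 13 1160, .F 13 1055, .R 15 1062 128, .C 56, .C 1320, .R 16 443 63, .C 1320, .C 56, .R 17 1710 172, .C 56, .C 1320, .R 18 383 51, .C 1320, .C 56, .R 19 942 116] [.C 1320, .C 1320, .R 5 0 0, .C 1320, .C 1320, .C 56],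
    .node,
    .node,
    .node,
    .node,
    .node,
    .node,
    .eq false (some (3, 20)) 0 0 [.C 56, .F 3 2, .R 5 2 1, .C 56, .F 6 6, .F 8 395, .R 12 402 56, .C 56, .F 13 618, .F 14 616, .R 15 623 75, .C 56, .R 16 282 44, .C 56, .R 21 640 79, .C 56, .R 22 280 43, .C 56, .R 23 632 77, .C 56, .R 24 289 46, .C 56, .R 25 630 76, .C 56, .R 26 282 44] [.C 1320, .F 3 1379, .F 1 59, .F 3 0, .R 5 0 0, .C 1320, .C 56, .C 1320, .F 8 1708, .F 7 1715, .R 12 1722 176, .C 1320, .C 56, .C 1320, .F 14 918, .F 14 916, .R 15 923 111, .C 1320, .C 56, .C 1320, .R 16 1722 176, .C 1320, .C 56],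
    .eq true (some (4, 14)) 0 1 [.C 56, .F 6 12, .F 8 76, .R 12 83 15, .C 56, .C 1320, .R 15 623 75, .C 1320, .C 56, .R 16 1722 176, .C 56, .C 1320, .R 21 400 55, .C 1320, .C 56] [.C 1320, .C 1320, .R 11 0 0, .C 1320, .C 1320, .C 56, .C 1320, .F 8 1708, .F 7 1715, .R 12 1722 176, .C 1320, .C 56, .C 1320, .C 1320, .F 14 1818, .F 13 792, .F 13 1466, .R 15 1472 149, .C 1320, .C 1320, .C 56],
    .eq true (some (0, 2)) 1 3 [.R 15 0 0] [.C 1320, .F 13 427, .F 14 466, .R 15 460 67, .C 1320],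
    .eq true (some (4, 11)) 430 4 [.C 56, .R 29 638 78, .C 56, .C 1320, .R 16 932 113, .C 1320, .C 56, .R 17 1309 142, .C 56, .C 1320] [.C 1320, .C 1320, .R 16 443 63, .C 1320, .C 1320, .C 56, .C 1320, .R 21 690 88, .C 1320, .C 56, .C 1320, .C 1320, .R 22 1069 130, .C 1320, .C 1320, .C 56, .C 1320, .R 23 443 63, .C 1320, .C 56, .C 1320],
    .eq false (some (3, 28)) 1382 5 [.C 56, .R 17 1309 142, .C 56, .R 18 92 17, .C 56, .R 19 692 89, .F 20 1505, .C 56, .R 9 362 49, .F 10 1742, .C 56, .F 1 1559, .F 3 1500, .R 5 1500 156, .C 56, .F 6 132, .F 8 256, .R 12 263 39, .C 56, .R 15 623 75, .C 56, .R 16 282 44, .C 56, .R 21 640 79, .C 56, .R 22 280 43, .C 56, .R 23 632 77, .C 56, .R 24 289 46, .C 56, .R 25 630 76, .C 56, .R 26 282 44, .F 27 0] [],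
    .eq true none 791 5 [.F 31 410] [.R 17 0 0],
    .eq true none 11 5 [.F 31 1850] [.R 21 0 0],
    .eq false (some (4, 7)) 776 5 [.C 56, .R 32 270 40, .C 56, .C 1320, .R 30 125 26, .C 1320, .C 56] [.C 1320, .C 1320, .F 31 1085, .R 33 750 100, .C 1320, .C 1320, .C 56, .C 1320, .R 28 1502 157, .C 1320, .C 56, .C 1320, .C 1320, .R 29 1487 153, .C 1320, .C 1320, .C 56, .C 1320, .R 16 743 99, .C 1320, .C 56, .C 1320, .C 1320, .F 31 1085, .R 33 750 100, .C 1320, .C 1320, .C 56, .C 1320, .R 28 1502 157, .C 1320],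
    .eq true none 11 11 [.F 34 325] [.R 24 0 0],
    .eq false (some (0, 1)) 3 6 [.R 18 0 0] [.C 1320, .R 30 1778 186, .F 34 1645, .C 1320, .C 1320, .R 35 1680 168, .C 1320],
    .eq false none 11 12 [.B 36 1852, .R 19 1530 160, .F 20 1298] [.R 25 0 0],
    .eq false none 1 13 [.B 37 1, .R 9 1470 148, .F 10 602] [.R 26 0 0, .F 27 602],
    .eq false none 116 5 [.B 38 1862] [.F 31 1805, .B 38 1679],
    .eq false none 839 0 [.F 39 957] [.F 0 1199, .F 1 1799, .F 3 1740, .F 1 0]]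

theorem ok0 : checkFrom P 0 w0 = true := by decide +kernel

variable {G : Type*} [Group G] {e : ℕ → G} {r : G}

theorem holds (hR : Rules e r) (hrels : ∀ w, w < P.rels.length → readW e r (P.rels.getD w []).reverse = 1) :
    ∀ m, m < 41 → (P.fact m).Holds P e r := by
  have h : ∀ m, m < 0 → (P.fact m).Holds P e r := fun m hm => absurd hm (Nat.not_lt_zero m)
  have h := checkFrom_sound P hR hrels w0 0 ok0 h
  exact fun m hm => h m hm

end Cfsg.Agent.J3Uniq.C740
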