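import Cfsg.Agent.Lib.J3Uniq.Check

/-!
A certificate for the case of orders `7`, `4` and exponent `1`.
-/

set_option autoImplicit false
set_option maxRecDepth 20000
set_option Elab.async false

namespace Cfsg.Agent.J3Uniq.C741

/-- facts -/
def f0 : List Fact :=
  [⟨false, 120, 0, 0, 0, 120⟩,
    ⟨false, 1740, 0, 0, 0, 1740⟩,
    ⟨false, 56, 0, 0, 0, 56⟩,
    ⟨false, 59, 0, 0, 0, 59⟩,
    ⟨false, 23, 0, 0, 0, 23⟩,
    ⟨true, 0, 0, 0, 1, 0⟩,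
    ⟨false, 49, 1, 0, 1, 23⟩,
    ⟨false, 5, 1, 0, 1, 5⟩,
    ⟨false, 1727, 1, 0, 1, 923⟩,
    ⟨true, 180, 1, 0, 2, 0⟩,
    ⟨false, 409, 2, 1320, 0, 0⟩,
    ⟨true, 0, 1, 1320, 1, 1320⟩,
    ⟨true, 1, 1, 0, 3, 0⟩,
    ⟨false, 662, 3, 0, 3, 938⟩,
    ⟨false, 32, 3, 0, 3, 42⟩,
    ⟨true, 1, 3, 0, 4, 0⟩,
    ⟨true, 7, 4, 0, 5, 0⟩,
    ⟨true, 791, 5, 0, 6, 0⟩,
    ⟨true, 3, 6, 0, 7, 0⟩,
    ⟨true, 787, 7, 0, 8, 0⟩,
    ⟨false, 932, 8, 56, 1, 657⟩,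
    ⟨true, 11, 5, 0, 9, 0⟩,
    ⟨true, 11, 9, 0, 10, 0⟩,
    ⟨true, 1, 10, 0, 11, 0⟩,
    ⟨true, 11, 11, 0, 12, 0⟩,
    ⟨true, 11, 12, 0, 13, 0⟩,
    ⟨true, 1, 13, 0, 14, 0⟩,
    ⟨false, 425, 14, 1857, 5, 1016⟩,
    ⟨true, 1616, 9, 378, 4, 965⟩,
    ⟨true, 0, 4, 1600, 4, 722⟩,
    ⟨true, 200, 6, 776, 11, 1685⟩,
    ⟨false, 1916, 5, 1382, 5, 479⟩]

/-- facts -/
def f1 : List Fact :=
  [⟨true, 1909, 5, 0, 6, 479⟩,
    ⟨true, 709, 5, 0, 9, 479⟩,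
    ⟨false, 900, 11, 318, 4, 1016⟩,
    ⟨true, 563, 4, 0, 12, 1016⟩,
    ⟨false, 0, 7, 1240, 12, 1685⟩,
    ⟨false, 1287, 1, 0, 13, 1316⟩,
    ⟨false, 302, 0, 1679, 5, 1260⟩,
    ⟨false, 1262, 0, 357, 0, 1199⟩,
    ⟨false, 0, 0, 0, 0, 122⟩]

/-- the certificate -/
def P : Cert where
  nodes := [(0, 0), (1, 180), (1, 1), (3, 1), (4, 7), (5, 791), (6, 3), (7, 787), (5, 11), (9, 11), (10, 1), (11, 11), (12, 11), (13, 1)]
  rels := [[1920, 1920, 1920], [1320, 1920, 1320, 1920], [1920, 2, 1320, 1920, 1320, 5], [1920, 56, 1920, 56, 1920, 56, 1920, 56, 1920, 56, 1920, 56, 1920, 56, 1920, 56, 1920, 56, 1920, 56, 1920, 56, 1920, 56, 1920, 56, 1920, 56], [1320, 1920, 1320, 56, 1920, 56, 1320, 1920, 1320, 56, 1920, 56, 1320, 1920, 1320, 56, 1920, 56, 1320, 1920, 1320, 56, 1920, 56, 2]]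
  facts := [f0, f1]

/-- justifications -/
def w0 : List Why :=
  [.one,
    .one,
    .one,
    .one,
    .one,
    .node,
    .eq false none 23 0 [.R 5 23 3] [.F 4 0, .R 5 0 0],
    .eq false none 5 0 [.R 5 5 2] [.F 2 59, .F 3 0, .R 5 0 0],
    .eq false none 923 0 [.R 5 923 111] [.F 3 927, .F 1 1347, .F 3 1343, .F 4 1320, .F 3 1379, .F 1 59, .F 3 0, .R 5 0 0],
    .node,
    .eq false (some (1, 3)) 0 0 [.R 5 0 0, .C 1320, .R 9 660 84] [.C 1320],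
    .eq true (some (0, 2)) 0 0 [.R 5 0 0] [.C 1320, .F 3 1379, .F 1 59, .F 3 0, .R 5 0 0, .C 1320],
    .node,
    .eq false none 1483 1 [.R 12 1490 155] [.F 7 1491, .F 8 1, .R 12 0 0],
    .eq false none 43 1 [.R 12 50 11] [.F 6 7, .F 7 1, .R 12 0 0],
    .node,
    .node,
    .node,
    .node,
    .node,
    .eq false (some (4, 21)) 0 0 [.C 2, .C 56, .F 3 0, .R 5 0 0, .C 56, .C 1320, .F 8 88, .F 7 95, .R 12 102 20, .C 1320, .C 56, .F 14 1578, .F 13 1152, .F 13 1706, .R 15 1712 173, .C 56, .C 1320, .R 16 392 53, .C 1320, .C 56, .R 17 949 118, .C 56, .C 1320, .R 18 92 17, .C 1320, .C 56, .R 19 1052 125] [.C 1320, .C 1320, .R 5 0 0, .C 1320, .C 1320, .C 56],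
    .node,
    .node,
    .node,
    .node,
    .node,
    .node,
    .eq false (some (3, 20)) 0 0 [.C 56, .F 3 2, .R 5 2 1, .C 56, .F 6 6, .F 8 395, .R 12 402 56, .C 56, .F 13 618, .F 14 616, .R 15 623 75, .C 56, .R 16 282 44, .C 56, .R 21 640 79, .C 56, .R 22 280 43, .C 56, .R 23 632 77, .C 56, .R 24 289 46, .C 56, .R 25 630 76, .C 56, .R 26 282 44] [.C 1320, .F 3 1379, .F 1 59, .F 3 0, .R 5 0 0, .C 1320, .C 56, .C 1320, .F 8 1708, .F 7 1715, .R 12 1722 176, .C 1320, .C 56, .C 1320, .F 14 918, .F 14 916, .R 15 923 111, .C 1320, .C 56, .C 1320, .R 16 1722 176, .C 1320, .C 56],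
    .eq true (some (4, 15)) 0 1 [.C 2, .C 56, .F 6 6, .F 8 395, .R 12 402 56, .C 56, .C 1320, .R 15 272 41, .C 1320, .C 56, .R 16 932 113, .C 56, .C 1320, .R 21 109 22, .C 1320, .C 56] [.C 1320, .C 1320, .R 11 0 0, .C 1320, .C 1320, .C 56, .C 1320, .F 8 1708, .F 7 1715, .R 12 1722 176, .C 1320, .C 56, .C 1320, .C 1320, .F 14 1818, .F 13 792, .F 13 1466, .R 15 1472 149, .C 1320, .C 1320, .C 56],
    .eq true (some (0, 2)) 1 3 [.R 15 0 0] [.C 1320, .F 13 427, .F 14 466, .R 15 460 67, .C 1320],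
    .eq true (some (4, 12)) 430 4 [.C 2, .C 56, .R 29 710 95, .C 56, .C 1320, .R 16 1722 176, .C 1320, .C 56, .R 17 760 103, .C 56, .C 1320] [.C 1320, .C 1320, .R 16 443 63, .C 1320, .C 1320, .C 56, .C 1320, .R 21 690 88, .C 1320, .C 56, .C 1320, .C 1320, .R 22 1069 130, .C 1320, .C 1320, .C 56, .C 1320, .R 23 443 63, .C 1320, .C 56, .C 1320],
    .eq false (some (3, 28)) 1382 5 [.C 56, .R 17 1309 142, .C 56, .R 18 92 17, .C 56, .R 19 692 89, .F 20 1500, .C 56, .R 9 420 60, .F 10 1740, .C 56, .F 1 1556, .F 3 1502, .R 5 1502 157, .C 56, .F 6 126, .F 8 635, .R 12 642 80, .C 56, .R 15 272 41, .C 56, .R 16 632 77, .C 56, .R 21 289 46, .C 56, .R 22 630 76, .C 56, .R 23 282 44, .C 56, .R 24 640 79, .C 56, .R 25 280 43, .C 56, .R 26 632 77, .F 27 5] [],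
    .eq true none 791 5 [.F 31 402] [.R 17 0 0],
    .eq true none 11 5 [.F 31 1842] [.R 21 0 0],
    .eq false (some (4, 8)) 776 5 [.C 2, .C 56, .R 32 700 91, .C 56, .C 1320, .R 30 120 24, .C 1320, .C 56] [.C 1320, .C 1320, .F 31 1080, .R 33 750 100, .C 1320, .C 1320, .C 56, .C 1320, .R 28 1505 158, .C 1320, .C 56, .C 1320, .C 1320, .R 29 1298 138, .C 1320, .C 1320, .C 56, .C 1320, .R 16 1292 137, .C 1320, .C 56, .C 1320, .C 1320, .F 31 1085, .R 33 1489 154, .C 1320, .C 1320, .C 56, .C 1320, .R 28 1500 156, .C 1320],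
    .eq true none 11 11 [.F 34 311] [.R 24 0 0],
    .eq false (some (0, 1)) 3 6 [.R 18 0 0] [.C 1320, .R 30 1770 184, .F 34 1637, .C 1320, .C 1320, .R 35 1298 138, .C 1320],
    .eq false none 11 12 [.B 36 573, .R 19 407 57, .F 20 1298] [.R 25 0 0],
    .eq false none 1 13 [.B 37 1, .R 9 1470 148, .F 10 602] [.R 26 0 0, .F 27 602],
    .eq false none 719 5 [.B 38 780] [.F 31 1805, .B 38 1679],
    .eq false none 836 0 [.F 39 957] [.F 0 1196, .F 1 1796, .F 2 1740, .F 1 0]]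

theorem ok0 : checkFrom P 0 w0 = true := by decide +kernel

variable {G : Type*} [Group G] {e : ℕ → G} {r : G}

theorem holds (hR : Rules e r) (hrels : ∀ w, w < P.rels.length → readW e r (P.rels.getD w []).reverse = 1) :
    ∀ m, m < 41 → (P.fact m).Holds P e r := by
  have h : ∀ m, m < 0 → (P.fact m).Holds P e r := fun m hm => absurd hm (Nat.not_lt_zero m)
  have h := checkFrom_sound P hR hrels w0 0 ok0 h
  exact fun m hm => h m hm

end Cfsg.Agent.J3Uniq.C741
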