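import Cfsg.Agent.Lib.J3Uniq.Check

/-!
A certificate for the case of orders `7`, `4` and exponent `2`.
-/

set_option autoImplicit false
set_option maxRecDepth 20000
set_option Elab.async false

namespace Cfsg.Agent.J3Uniq.C742

/-- facts -/
def f0 : List Fact :=
  [⟨false, 1740, 0, 0, 0, 1740⟩,
    ⟨false, 56, 0, 0, 0, 56⟩,
    ⟨false, 59, 0, 0, 0, 59⟩,
    ⟨false, 23, 0, 0, 0, 23⟩,
    ⟨true, 0, 0, 0, 1, 0⟩,
    ⟨false, 49, 1, 0, 1, 23⟩,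
    ⟨false, 5, 1, 0, 1, 5⟩,
    ⟨false, 1727, 1, 0, 1, 923⟩,
    ⟨true, 180, 1, 0, 2, 0⟩,
    ⟨false, 409, 2, 1320, 0, 0⟩,
    ⟨true, 0, 1, 1320, 1, 1320⟩,
    ⟨true, 1, 1, 0, 3, 0⟩,
    ⟨false, 662, 3, 0, 3, 938⟩,
    ⟨false, 32, 3, 0, 3, 42⟩,
    ⟨true, 1, 3, 0, 4, 0⟩,
    ⟨true, 7, 4, 0, 5, 0⟩,
    ⟨true, 791, 5, 0, 6, 0⟩,
    ⟨true, 3, 6, 0, 7, 0⟩,
    ⟨true, 787, 7, 0, 8, 0⟩,
    ⟨false, 1043, 8, 56, 1, 657⟩,
    ⟨true, 11, 5, 0, 9, 0⟩,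
    ⟨true, 11, 9, 0, 10, 0⟩,
    ⟨true, 1, 10, 0, 11, 0⟩,
    ⟨true, 11, 11, 0, 12, 0⟩,
    ⟨true, 11, 12, 0, 13, 0⟩,
    ⟨true, 1, 13, 0, 14, 0⟩,
    ⟨false, 425, 14, 1857, 5, 1016⟩,
    ⟨true, 1679, 9, 378, 4, 965⟩,
    ⟨true, 0, 4, 1600, 4, 722⟩,
    ⟨true, 486, 6, 776, 11, 1685⟩,
    ⟨false, 1439, 5, 1382, 5, 479⟩,
    ⟨true, 830, 5, 0, 6, 479⟩]

/-- facts -/
def f1 : List Fact :=
  [⟨true, 50, 5, 0, 9, 479⟩,
    ⟨false, 1025, 11, 550, 4, 1016⟩,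
    ⟨true, 563, 4, 0, 12, 1016⟩,
    ⟨false, 0, 7, 1592, 12, 1685⟩,
    ⟨false, 1287, 1, 0, 13, 1316⟩,
    ⟨false, 302, 0, 1679, 5, 1260⟩,
    ⟨false, 1260, 0, 357, 0, 1199⟩,
    ⟨false, 0, 0, 0, 0, 125⟩]

/-- the certificate -/
def P : Cert where
  nodes := [(0, 0), (1, 180), (1, 1), (3, 1), (4, 7), (5, 791), (6, 3), (7, 787), (5, 11), (9, 11), (10, 1), (11, 11), (12, 11), (13, 1)]
  rels := [[1920, 1920, 1920], [1320, 1920, 1320, 1920], [1920, 2, 1320, 1920, 1320, 5], [1920, 56, 1920, 56, 1920, 56, 1920, 56, 1920, 56, 1920, 56, 1920, 56, 1920, 56, 1920, 56, 1920, 56, 1920, 56, 1920, 56, 1920, 56, 1920, 56], [1320, 1920, 1320, 56, 1920, 56, 1320, 1920, 1320, 56, 1920, 56, 1320, 1920, 1320, 56, 1920, 56, 1320, 1920, 1320, 56, 1920, 56, 5]]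
  facts := [f0, f1]

/-- justifications -/
def w0 : List Why :=
  [.one,
    .one,
    .one,
    .one,
    .node,
    .eq false none 23 0 [.R 4 23 3] [.F 3 0, .R 4 0 0],
    .eq false none 5 0 [.R 4 5 2] [.F 1 59, .F 2 0, .R 4 0 0],
    .eq false none 923 0 [.R 4 923 111] [.F 2 927, .F 0 1347, .F 2 1343, .F 3 1320, .F 2 1379, .F 0 59, .F 2 0, .R 4 0 0],
    .node,
    .eq false (some (1, 3)) 0 0 [.R 4 0 0, .C 1320, .R 8 660 84] [.C 1320],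
    .eq true (some (0, 2)) 0 0 [.R 4 0 0] [.C 1320, .F 2 1379, .F 0 59, .F 2 0, .R 4 0 0, .C 1320],
    .node,
    .eq false none 1483 1 [.R 11 1490 155] [.F 6 1491, .F 7 1, .R 11 0 0],
    .eq false none 43 1 [.R 11 50 11] [.F 5 7, .F 6 1, .R 11 0 0],
    .node,
    .node,
    .node,
    .node,
    .node,
    .eq false (some (4, 21)) 0 0 [.C 5, .C 56, .F 2 5, .R 4 5 2, .C 56, .C 1320, .F 7 430, .F 6 436, .R 11 443 63, .C 1320, .C 56, .F 13 1630, .F 12 1146, .F 12 916, .R 14 923 111, .C 56, .C 1320, .R 15 102 20, .C 1320, .C 56, .R 16 1060 127, .C 56, .C 1320, .R 17 462 68, .C 1320, .C 56, .R 18 1703 171] [.C 1320, .C 1320, .R 4 0 0, .C 1320, .C 1320, .C 56],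
    .node,
    .node,
    .node,
    .node,
    .node,
    .node,
    .eq false (some (3, 20)) 0 0 [.C 56, .F 2 2, .R 4 2 1, .C 56, .F 5 6, .F 7 395, .R 11 402 56, .C 56, .F 12 618, .F 13 616, .R 14 623 75, .C 56, .R 15 282 44, .C 56, .R 20 640 79, .C 56, .R 21 280 43, .C 56, .R 22 632 77, .C 56, .R 23 289 46, .C 56, .R 24 630 76, .C 56, .R 25 282 44] [.C 1320, .F 2 1379, .F 0 59, .F 2 0, .R 4 0 0, .C 1320, .C 56, .C 1320, .F 7 1708, .F 6 1715, .R 11 1722 176, .C 1320, .C 56, .C 1320, .F 13 918, .F 13 916, .R 14 923 111, .C 1320, .C 56, .C 1320, .R 15 1722 176, .C 1320, .C 56],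
    .eq true (some (4, 15)) 0 1 [.C 5, .C 56, .F 5 20, .F 7 446, .R 11 452 65, .C 56, .C 1320, .R 14 702 92, .C 1320, .C 56, .R 15 1043 123, .C 56, .C 1320, .R 20 450 64, .C 1320, .C 56] [.C 1320, .C 1320, .R 10 0 0, .C 1320, .C 1320, .C 56, .C 1320, .F 7 1708, .F 6 1715, .R 11 1722 176, .C 1320, .C 56, .C 1320, .C 1320, .F 13 1818, .F 12 792, .F 12 1466, .R 14 1472 149, .C 1320, .C 1320, .C 56],
    .eq true (some (0, 2)) 1 3 [.R 14 0 0] [.C 1320, .F 12 427, .F 13 466, .R 14 460 67, .C 1320],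
    .eq true (some (4, 12)) 430 4 [.C 5, .C 56, .R 28 287 45, .C 56, .C 1320, .R 15 1043 123, .C 1320, .C 56, .R 16 1470 148, .C 56, .C 1320] [.C 1320, .C 1320, .R 15 443 63, .C 1320, .C 1320, .C 56, .C 1320, .R 20 690 88, .C 1320, .C 56, .C 1320, .C 1320, .R 21 1069 130, .C 1320, .C 1320, .C 56, .C 1320, .R 22 443 63, .C 1320, .C 56, .C 1320],
    .eq false (some (3, 28)) 1382 5 [.C 56, .R 16 1309 142, .C 56, .R 17 92 17, .C 56, .R 18 692 89, .F 19 1502, .C 56, .R 8 65 14, .F 9 1745, .C 56, .F 0 1557, .F 2 1505, .R 4 1505 158, .C 56, .F 5 140, .F 7 686, .R 11 692 89, .C 56, .R 14 702 92, .C 56, .R 15 683 87, .C 56, .R 20 690 88, .C 56, .R 21 709 94, .C 56, .R 22 683 87, .C 56, .R 23 690 88, .C 56, .R 24 709 94, .C 56, .R 25 683 87, .F 26 2] [],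
    .eq true none 791 5 [.F 30 409] [.R 16 0 0],
    .eq true none 11 5 [.F 30 1849] [.R 20 0 0],
    .eq false (some (4, 8)) 776 5 [.C 5, .C 56, .R 31 649 82, .C 56, .C 1320, .R 29 122 25, .C 1320, .C 56] [.C 1320, .C 1320, .F 30 1082, .R 32 750 100, .C 1320, .C 1320, .C 56, .C 1320, .R 27 1500 156, .C 1320, .C 56, .C 1320, .C 1320, .R 28 770 107, .C 1320, .C 1320, .C 56, .C 1320, .R 15 1482 152, .C 1320, .C 56, .C 1320, .C 1320, .F 30 1085, .R 32 1300 139, .C 1320, .C 1320, .C 56, .C 1320, .R 27 1505 158, .C 1320],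
    .eq true none 11 11 [.F 33 317] [.R 23 0 0],
    .eq false (some (0, 1)) 3 6 [.R 17 0 0] [.C 1320, .R 29 1763 183, .F 33 1631, .C 1320, .C 1320, .R 34 452 65, .C 1320],
    .eq false none 11 12 [.B 35 981, .R 18 65 14, .F 19 1298] [.R 24 0 0],
    .eq false none 1 13 [.B 36 1, .R 8 1470 148, .F 9 602] [.R 25 0 0, .F 26 602],
    .eq false none 57 5 [.B 37 965] [.F 30 1805, .B 37 1679],
    .eq false none 837 0 [.F 38 957] [.F 2 785, .F 0 1325, .F 1 1379, .F 0 59, .F 2 0]]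

theorem ok0 : checkFrom P 0 w0 = true := by decide +kernel

variable {G : Type*} [Group G] {e : ℕ → G} {r : G}

theorem holds (hR : Rules e r) (hrels : ∀ w, w < P.rels.length → readW e r (P.rels.getD w []).reverse = 1) :
    ∀ m, m < 40 → (P.fact m).Holds P e r := by
  have h : ∀ m, m < 0 → (P.fact m).Holds P e r := fun m hm => absurd hm (Nat.not_lt_zero m)
  have h := checkFrom_sound P hR hrels w0 0 ok0 h
  exact fun m hm => h m hm

end Cfsg.Agent.J3Uniq.C742
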